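import Cfsg.Agent.Lib.M22Nse.CountsTools

/-!
# S3594, piece P1: the numbers of elements of each order determine the orders

The primes five, seven and eleven have self-centralising Sylow subgroups of prime order.  The
remaining 133980 elements are split by the congruences of Frobenius for 6, 9 and 64.
-/

set_option autoImplicit false
set_option linter.unusedSectionVars false
set_option linter.style.haveILetI false
set_option maxRecDepth 20000

open scoped Classical

namespace CfsgLib.M22Nse.CountsP1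

open Subgroup

universe u

variable {G : Type u} [Group G] [Finite G]

theorem values (h : Hyp G) (n : ℕ) : cnt G n = 0 ∨ cnt G n = 1 ∨ cnt G n = 1155 ∨
    cnt G n = 12320 ∨ cnt G n = 36960 ∨ cnt G n = 41580 ∨ cnt G n = 55440 ∨ cnt G n = 80640 ∨
    cnt G n = 88704 ∨ cnt G n = 126720 := by
  simpa [vals] using h.mem n

theorem totient_dvd (n : ℕ) : Nat.totient n ∣ cnt G n :=
  CfsgLib.Techniques.OrderClasses.totient_dvd_cnt G n

theorem succ_mod (h : Hyp G) {p : ℕ} (hp : p.Prime) (hd : p ∣ 443520) :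
    (cnt G p + 1) % p = 0 := by
  have := CfsgLib.Techniques.OrderClasses.cnt_prime G hp (h.card ▸ hd)
  refine Nat.mod_eq_zero_of_dvd ?_
  rw [← ZMod.natCast_eq_zero_iff, Nat.cast_add, Nat.cast_one, cnt_eq, this, neg_add_cancel]

theorem count_eleven (h : Hyp G) : cnt G 11 = 80640 := by
  have := succ_mod h (p := 11) (by norm_num) (by norm_num)
  have := values h 11
  omega

theorem count_seven (h : Hyp G) : cnt G 7 = 126720 := by
  have := succ_mod h (p := 7) (by norm_num) (by norm_num)
  have := values h 7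
  omega

theorem count_five (h : Hyp G) : cnt G 5 = 88704 := by
  have := succ_mod h (p := 5) (by norm_num) (by norm_num)
  have := values h 5
  omega

theorem count_three (h : Hyp G) : cnt G 3 = 12320 := by
  have := succ_mod h (p := 3) (by norm_num) (by norm_num)
  have := values h 3
  omega

theorem sylow_prime (h : Hyp G) {p m c : ℕ} [Fact p.Prime] (hm : 443520 = p * m) (hp : ¬ p ∣ m)
    (hc : cnt G p = c) : (∀ P : Sylow p G, Nat.card (P : Subgroup G) = p) ∧
      Nat.card (Sylow p G) * (p - 1) = c := by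
  have hP : ∀ P : Sylow p G, Nat.card (P : Subgroup G) = p := fun P => by
    simpa using card_sylow_eq' p m (by rw [h.card, hm]) hp P
  refine ⟨hP, ?_⟩
  rw [← hc, cnt]
  exact (CfsgLib.Small.card_orderOf_eq_prime hP).symm

/-- no element of order `p * q` when the count would be too large -/
theorem no_prod (h : Hyp G) {p q : ℕ} [Fact p.Prime] (hq : q.Prime)
    (hP : ∀ P : Sylow p G, Nat.card (P : Subgroup G) = p) {x : G} (hx : orderOf x = p)
    (hpq : p.Coprime q) (hbig : 126720 < cnt G p * (q - 1)) :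
    ¬ q ∣ Nat.card (centralizer ({x} : Set G)) := by
  intro hd
  haveI := Fact.mk hq
  obtain ⟨y, hy⟩ := exists_prime_orderOf_dvd_card' (G := centralizer ({x} : Set G)) q hd
  have hpos : 0 < cnt (centralizer ({x} : Set G)) q := cnt_pos_iff.2 ⟨y, hy⟩
  have h1 := totient_dvd (G := centralizer ({x} : Set G)) q
  rw [Nat.totient_prime hq] at h1
  have h2 := Nat.le_of_dvd hpos h1
  have h3 := cnt_prime_prod hP hx (m := q) hpq
  have h4 := Nat.mul_le_mul_left (cnt G p) h2
  rw [← h3] at h4
  have := values h (p * q)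
  omega

theorem cent_eleven (h : Hyp G) {g : G} (hg : orderOf g = 11) :
    Nat.card (centralizer ({g} : Set G)) = 11 := by
  haveI : Fact (Nat.Prime 11) := ⟨by norm_num⟩
  obtain ⟨hP, hn⟩ := sylow_prime h (p := 11) (m := 40320) (by norm_num) (by norm_num) (count_eleven h)
  obtain ⟨e, -, hmul⟩ := local_card hP hg
  rw [show Nat.card (Sylow 11 G) = 8064 by omega, h.card] at hmul
  have hCe : Nat.card (centralizer ({g} : Set G)) * e = 55 :=
    Nat.eq_of_mul_eq_mul_right (by norm_num : 0 < 8064) (hmul.trans (by norm_num))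
  obtain ⟨k, hk⟩ : 11 ∣ Nat.card (centralizer ({g} : Set G)) := hg ▸ dvd_centCard (Commute.refl g)
  rw [hk, mul_assoc] at hCe
  have hke : k * e = 5 := by omega
  rcases (Nat.dvd_prime (by norm_num : Nat.Prime 5)).1 (Dvd.intro _ hke) with rfl | rfl
  · rw [hk]
  · exact absurd (hk ▸ dvd_mul_left 5 11)
      (no_prod h (by norm_num) hP hg (by norm_num) (by rw [count_eleven h]; norm_num))

theorem cent_seven (h : Hyp G) {g : G} (hg : orderOf g = 7) :
    Nat.card (centralizer ({g} : Set G)) = 7 := by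
  haveI : Fact (Nat.Prime 7) := ⟨by norm_num⟩
  obtain ⟨hP, hn⟩ := sylow_prime h (p := 7) (m := 63360) (by norm_num) (by norm_num) (count_seven h)
  obtain ⟨e, -, hmul⟩ := local_card hP hg
  rw [show Nat.card (Sylow 7 G) = 21120 by omega, h.card] at hmul
  have hCe : Nat.card (centralizer ({g} : Set G)) * e = 21 :=
    Nat.eq_of_mul_eq_mul_right (by norm_num : 0 < 21120) (hmul.trans (by norm_num))
  obtain ⟨k, hk⟩ : 7 ∣ Nat.card (centralizer ({g} : Set G)) := hg ▸ dvd_centCard (Commute.refl g)
  rw [hk, mul_assoc] at hCe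
  have hke : k * e = 3 := by omega
  rcases (Nat.dvd_prime (by norm_num : Nat.Prime 3)).1 (Dvd.intro _ hke) with rfl | rfl
  · rw [hk]
  · exact absurd (hk ▸ dvd_mul_left 3 7)
      (no_prod h (by norm_num) hP hg (by norm_num) (by rw [count_seven h]; norm_num))

theorem cent_five_dvd (h : Hyp G) {g : G} (hg : orderOf g = 5) :
    Nat.card (centralizer ({g} : Set G)) ∣ 20 := by
  haveI : Fact (Nat.Prime 5) := ⟨by norm_num⟩
  obtain ⟨hP, hn⟩ := sylow_prime h (p := 5) (m := 88704) (by norm_num) (by norm_num) (count_five h)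
  obtain ⟨e, -, hmul⟩ := local_card hP hg
  rw [show Nat.card (Sylow 5 G) = 22176 by omega, h.card] at hmul
  exact Dvd.intro _
    (Nat.eq_of_mul_eq_mul_right (by norm_num : 0 < 22176) (hmul.trans (by norm_num)))

theorem norm5_card (h : Hyp G) (P : Sylow 5 G) :
    Nat.card (normalizer ((P : Subgroup G) : Set G)) = 20 := by
  haveI : Fact (Nat.Prime 5) := ⟨by norm_num⟩
  obtain ⟨-, hn⟩ := sylow_prime h (p := 5) (m := 88704) (by norm_num) (by norm_num) (count_five h)
  have h1 : Nat.card (normalizer ((P : Subgroup G) : Set G)) * Nat.card (Sylow 5 G) =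
      Nat.card G := by
    rw [Sylow.card_eq_index_normalizer P]; exact Subgroup.card_mul_index _
  rw [show Nat.card (Sylow 5 G) = 22176 by omega, h.card] at h1
  omega

theorem order_prime {g : G} {p : ℕ} (hp : p.Prime)
    (hC : ∀ x : G, orderOf x = p → Nat.card (centralizer ({x} : Set G)) = p) (hd : p ∣ orderOf g) :
    orderOf g = p := by
  obtain ⟨k, hk⟩ := hd
  have hk0 : k ≠ 0 := by rintro rfl; exact (orderOf_pos g).ne' (by simpa using hk)
  have hx : orderOf (g ^ k) = p := by
    rw [orderOf_pow' _ hk0, hk, Nat.gcd_mul_left_left, Nat.mul_div_cancel _ (by omega)]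
  have hd := dvd_centCard ((Commute.refl g).pow_right k)
  rw [hC _ hx, hk] at hd
  have h1 : p * k ≤ p := Nat.le_of_dvd hp.pos hd
  have h2 : k ≤ 1 := Nat.le_of_mul_le_mul_left (by simpa using h1) hp.pos
  rw [hk, show k = 1 by omega, mul_one]

theorem count_two (h : Hyp G) : cnt G 2 = 1155 := by
  have h2 := succ_mod h Nat.prime_two (by norm_num)
  have hv := values h 2
  by_contra hne
  have h21 : cnt G 2 = 1 := by omega
  haveI : Fact (Nat.Prime 2) := ⟨Nat.prime_two⟩
  haveI : Fact (Nat.Prime 11) := ⟨by norm_num⟩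
  obtain ⟨t, ht⟩ := exists_prime_orderOf_dvd_card' (G := G) 2 (by rw [h.card]; norm_num)
  obtain ⟨x, hx⟩ := exists_prime_orderOf_dvd_card' (G := G) 11 (by rw [h.card]; norm_num)
  obtain ⟨hu, -⟩ := Nat.card_eq_one_iff_unique.1 h21
  have hfix : x * t * x⁻¹ = t := congrArg Subtype.val
    (@Subsingleton.elim _ hu ⟨x * t * x⁻¹, by rw [conj_order, ht]⟩ ⟨t, ht⟩)
  have hc : Commute x t := mul_inv_eq_iff_eq_mul.1 hfix
  have h22 := hc.orderOf_mul_eq_mul_orderOf_of_coprime (by rw [hx, ht]; norm_num)
  rw [hx, ht] at h22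
  have := order_prime (g := x * t) (by norm_num : Nat.Prime 11) (fun y hy => cent_eleven h hy)
    (by rw [h22]; norm_num)
  omega

/-- the orders prime to seventy-seven, other than one, two, three, five and twenty -/
def S : Finset ℕ := {4, 8, 16, 32, 64, 128, 6, 12, 24, 48, 96, 192, 384, 9, 18, 36, 72, 144, 288,
  576, 1152, 10}

/-- the other possible orders -/
def T : Finset ℕ := {1, 2, 3, 5, 7, 11}

theorem order_mem (h : Hyp G) (g : G) : orderOf g ∈ T ∪ S := by
  by_cases h11 : 11 ∣ orderOf g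
  · rw [order_prime (by norm_num) (fun y hy => cent_eleven h hy) h11]; decide +kernel
  by_cases h7 : 7 ∣ orderOf g
  · rw [order_prime (by norm_num) (fun y hy => cent_seven h hy) h7]; decide +kernel
  by_cases h5 : 5 ∣ orderOf g
  · obtain ⟨k, hk⟩ := h5
    have hk0 : k ≠ 0 := by rintro rfl; exact (orderOf_pos g).ne' (by simpa using hk)
    have hx : orderOf (g ^ k) = 5 := by
      rw [orderOf_pow' _ hk0, hk, Nat.gcd_mul_left_left, Nat.mul_div_cancel _ (by omega)]
    have hd := (dvd_centCard ((Commute.refl g).pow_right k)).trans (cent_five_dvd h hx)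
    rw [hk] at hd ⊢
    have hk4 : k ∣ 4 := (Nat.mul_dvd_mul_iff_left (by norm_num : 0 < 5)).1 hd
    obtain ⟨i, hi, rfl⟩ := (Nat.dvd_prime_pow Nat.prime_two).1 (show k ∣ 2 ^ 2 from hk4)
    interval_cases i
    · decide +kernel
    · decide +kernel
    · exfalso
      haveI : Fact (Nat.Prime 5) := ⟨by norm_num⟩
      obtain ⟨hP, -⟩ := sylow_prime h (p := 5) (m := 88704) (by norm_num) (by norm_num) (count_five h)
      have h20 := cnt_prime_prod hP hx (m := 4) (by norm_num)
      have hpos : 0 < cnt G (5 * 4) := cnt_pos_iff.2 ⟨g, hk⟩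
      have hev := CfsgLib.Techniques.OrderClasses.even_cnt
        (centralizer ({g ^ (2 ^ 2)} : Set G)) (m := 4) (by norm_num)
      rw [← cnt_eq, Nat.even_iff] at hev
      rw [count_five h] at h20
      have := values h (5 * 4)
      omega
  have hd : orderOf g ∣ 1152 := by
    have h385 : (orderOf g).Coprime (5 * 7 * 11) := Nat.Coprime.mul_right (Nat.Coprime.mul_right
      ((Nat.Prime.coprime_iff_not_dvd (by norm_num)).2 h5).symm
      ((Nat.Prime.coprime_iff_not_dvd (by norm_num)).2 h7).symm)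
      ((Nat.Prime.coprime_iff_not_dvd (by norm_num)).2 h11).symm
    refine h385.dvd_of_dvd_mul_right ?_
    rw [show 1152 * (5 * 7 * 11) = Nat.card G by rw [h.card]]
    exact orderOf_dvd_natCard g
  obtain ⟨a, b, ha, hb, hab⟩ := exists_dvd_and_dvd_of_dvd_mul (show orderOf g ∣ 128 * 9 from hd)
  obtain ⟨i, hi, rfl⟩ := (Nat.dvd_prime_pow Nat.prime_two).1 (show a ∣ 2 ^ 7 from ha)
  obtain ⟨j, hj, rfl⟩ := (Nat.dvd_prime_pow Nat.prime_three).1 (show b ∣ 3 ^ 2 from hb)
  have key : ∀ i < 8, ∀ j < 3, 2 ^ i * 3 ^ j ∈ T ∪ S := by decide +kernel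
  rw [hab]
  exact key i (by omega) j (by omega)

theorem sum_S (h : Hyp G) : ∑ d ∈ S, cnt G d = 133980 := by
  have hall : ∑ d ∈ (443520 : ℕ).divisors, cnt G d = 443520 := by
    show ∑ d ∈ (443520 : ℕ).divisors, CfsgLib.Techniques.OrderClasses.cnt G d = 443520
    rw [CfsgLib.Techniques.OrderClasses.sum_cnt G (by norm_num), ← h.card]
    exact Nat.card_congr (Equiv.subtypeUnivEquiv fun g => pow_card_eq_one')
  have hdvd : ∀ d ∈ T ∪ S, d ∣ 443520 := by decide +kernel
  have hdis : Disjoint T S := by decide +kernel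
  have e : ∑ d ∈ T ∪ S, cnt G d = 443520 := by
    refine Eq.trans (Finset.sum_subset (fun d hd => Nat.mem_divisors.2 ⟨hdvd d hd, by norm_num⟩)
      fun d _ hd => cnt_eq_zero_of fun g hg => hd (hg ▸ order_mem h g)) hall
  have hsumT : ∑ d ∈ T, cnt G d = 309540 := by
    have c1 : cnt G 1 = 1 := CfsgLib.Techniques.OrderClasses.cnt_one G
    simp [T, c1, count_two h, count_three h, count_five h, count_seven h, count_eleven h]
  rw [Finset.sum_union hdis, hsumT] at e
  omega

theorem no_big (a b c e f g i : ℕ) (h : 12320 * a + 36960 * b + 41580 * c + 55440 * e + 80640 * f +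
    88704 * g + 126720 * i = 133980) : f = 0 ∧ g = 0 ∧ i = 0 := by
  omega

set_option maxHeartbeats 800000 in
theorem small_values (h : Hyp G) : ∀ d ∈ S, cnt G d = 0 ∨ cnt G d = 12320 ∨ cnt G d = 36960 ∨
    cnt G d = 41580 ∨ cnt G d = 55440 := by
  intro d hd
  have hev : ∀ e ∈ S, cnt G e % 2 = 0 := fun e he => by
    have := CfsgLib.Techniques.OrderClasses.even_cnt G (m := e)
      ((show ∀ e ∈ S, 2 < e by decide +kernel) e he)
    rwa [← cnt_eq, Nat.even_iff] at this
  have hrest : ∀ U : Finset ℕ, U ⊆ S → ∃ a b c e f g i : ℕ, ∑ n ∈ U, cnt G n =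
      12320 * a + 36960 * b + 41580 * c + 55440 * e + 80640 * f + 88704 * g + 126720 * i := by
    intro U
    induction U using Finset.induction_on with
    | empty => exact fun _ => ⟨0, 0, 0, 0, 0, 0, 0, by simp⟩
    | @insert x U hx ih =>
      intro hU
      obtain ⟨a, b, c, e, f, g, i, hs⟩ := ih fun y hy => hU (Finset.mem_insert_of_mem hy)
      rw [Finset.sum_insert hx, hs]
      have he := hev x (hU (Finset.mem_insert_self x U))
      rcases values h x with e1 | e1 | e1 | e1 | e1 | e1 | e1 | e1 | e1 | e1 <;>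
        rw [e1] at he ⊢
      · exact ⟨a, b, c, e, f, g, i, by omega⟩
      · omega
      · omega
      · exact ⟨a + 1, b, c, e, f, g, i, by omega⟩
      · exact ⟨a, b + 1, c, e, f, g, i, by omega⟩
      · exact ⟨a, b, c + 1, e, f, g, i, by omega⟩
      · exact ⟨a, b, c, e + 1, f, g, i, by omega⟩
      · exact ⟨a, b, c, e, f + 1, g, i, by omega⟩
      · exact ⟨a, b, c, e, f, g + 1, i, by omega⟩
      · exact ⟨a, b, c, e, f, g, i + 1, by omega⟩
  obtain ⟨a, b, c, e, f, g, i, hs⟩ := hrest (S.erase d) (Finset.erase_subset _ _)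
  have htot := Finset.add_sum_erase S (cnt G) hd
  rw [sum_S h, hs] at htot
  have he := hev d hd
  rcases values h d with e1 | e1 | e1 | e1 | e1 | e1 | e1 | e1 | e1 | e1
  · exact Or.inl e1
  · omega
  · omega
  · exact Or.inr (Or.inl e1)
  · exact Or.inr (Or.inr (Or.inl e1))
  · exact Or.inr (Or.inr (Or.inr (Or.inl e1)))
  · exact Or.inr (Or.inr (Or.inr (Or.inr e1)))
  · exact absurd (no_big a b c e (f + 1) g i (by omega)).1 (by omega)
  · exact absurd (no_big a b c e f (g + 1) i (by omega)).2.1 (by omega)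
  · exact absurd (no_big a b c e f g (i + 1) (by omega)).2.2 (by omega)

theorem cent_five (h : Hyp G) {g : G} (hg : orderOf g = 5) :
    Nat.card (centralizer ({g} : Set G)) = 5 := by
  haveI : Fact (Nat.Prime 5) := ⟨by norm_num⟩
  haveI : Fact (Nat.Prime 2) := ⟨Nat.prime_two⟩
  obtain ⟨hP, -⟩ := sylow_prime h (p := 5) (m := 88704) (by norm_num) (by norm_num) (count_five h)
  have h5 : 5 ∣ Nat.card (centralizer ({g} : Set G)) := hg ▸ dvd_centCard (Commute.refl g)
  have h20 := cent_five_dvd h hg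
  have hodd : ¬ 2 ∣ Nat.card (centralizer ({g} : Set G)) := by
    intro hd
    obtain ⟨y, hy⟩ := exists_prime_orderOf_dvd_card' (G := centralizer ({g} : Set G)) 2 hd
    have hpos : 0 < cnt (centralizer ({g} : Set G)) 2 := cnt_pos_iff.2 ⟨y, hy⟩
    have h3 := cnt_prime_prod hP hg (m := 2) (by norm_num)
    rw [count_five h] at h3
    have hle : 88704 ≤ cnt G (5 * 2) := h3 ▸ Nat.le_mul_of_pos_right _ hpos
    have := small_values h (5 * 2) (by decide +kernel)
    omega
  refine Nat.dvd_antisymm ?_ h5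
  refine (Nat.Coprime.dvd_of_dvd_mul_right ?_ (show Nat.card (centralizer ({g} : Set G)) ∣ 5 * 4 from h20))
  exact (Nat.Coprime.pow_right 2 ((Nat.Prime.coprime_iff_not_dvd Nat.prime_two).2 hodd).symm)

theorem count_ten (h : Hyp G) : cnt G 10 = 0 :=
  cnt_eq_zero_of fun g hg => by
    have := order_prime (g := g) (by norm_num : Nat.Prime 5) (fun y hy => cent_five h hy)
      (by rw [hg]; norm_num)
    omega

/-- the possible counts -/
def V5 : List ℕ := [0, 12320, 36960, 41580, 55440]

/-- the congruences and the sum at the powers of two, at six and at nine -/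
def searchOK : Bool :=
  V5.all fun a => V5.all fun b => (b != 0 && a == 0) || V5.all fun c => (c != 0 && b == 0) ||
    V5.all fun d => (d != 0 && c == 0) || V5.all fun e => (e != 0 && d == 0) ||
    V5.all fun f => (f != 0 && e == 0) || (1156 + (a + b + c + d + e + f)) % 64 != 0 ||
    decide (133980 < a + b + c + d + e + f) ||
    V5.all fun s => s % 6 != 0 || V5.all fun n => n % 9 != 0 ||
      decide (133980 < a + b + c + d + e + f + s + n) ||
      (s == 0 && a + b + c + d + e + f + n != 133980) ||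
      (c == 0 && d == 0 && e == 0 && f == 0 && n == 0 && s == 36960 && b != 0 && a + b == 97020)

theorem searchOK_eq : searchOK = true := by decide +kernel

theorem search {a b c d e f s n : ℕ} (ha : a ∈ V5) (hb : b ∈ V5) (hc : c ∈ V5) (hd : d ∈ V5)
    (he : e ∈ V5) (hf : f ∈ V5) (hs : s ∈ V5) (hn : n ∈ V5) (h1 : 0 < b → 0 < a)
    (h2 : 0 < c → 0 < b) (h3 : 0 < d → 0 < c) (h4 : 0 < e → 0 < d) (h5 : 0 < f → 0 < e)
    (h64 : (1156 + (a + b + c + d + e + f)) % 64 = 0) (h6 : s % 6 = 0) (h9 : n % 9 = 0)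
    (hle : a + b + c + d + e + f + s + n ≤ 133980)
    (heq : s = 0 → a + b + c + d + e + f + n = 133980) :
    c = 0 ∧ d = 0 ∧ e = 0 ∧ f = 0 ∧ n = 0 ∧ s = 36960 ∧ 0 < b ∧ a + b = 97020 := by
  have n1 : ∀ x y : ℕ, (0 < x → 0 < y) → (x != 0 && y == 0) = false := by
    intro x y h
    rcases Nat.eq_zero_or_pos x with rfl | hx
    · simp
    · simp [(h hx).ne']
  have hS := searchOK_eq
  have h := List.all_eq_true.1 (List.all_eq_true.1 hS a ha) b hb
  simp only [n1 b a h1, Bool.false_or] at h
  have h := List.all_eq_true.1 h c hc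
  simp only [n1 c b h2, Bool.false_or] at h
  have h := List.all_eq_true.1 h d hd
  simp only [n1 d c h3, Bool.false_or] at h
  have h := List.all_eq_true.1 h e he
  simp only [n1 e d h4, Bool.false_or] at h
  have h := List.all_eq_true.1 h f hf
  have hlt : ¬ 133980 < a + b + c + d + e + f := by omega
  simp only [n1 f e h5, h64, hlt, bne_self_eq_false, decide_false, Bool.false_or] at h
  have h := List.all_eq_true.1 h s hs
  simp only [h6, bne_self_eq_false, Bool.false_or] at h
  have h := List.all_eq_true.1 h n hn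
  have hlt' : ¬ 133980 < a + b + c + d + e + f + s + n := by omega
  simp only [h9, hlt', bne_self_eq_false, decide_false, Bool.false_or, Bool.or_eq_true,
    Bool.and_eq_true, beq_iff_eq, bne_iff_ne, ne_eq] at h
  rcases h with h | h
  · exact absurd (heq h.1) h.2
  · obtain ⟨⟨⟨⟨⟨⟨⟨rc, rd⟩, re⟩, rf⟩, rn⟩, rs⟩, rb⟩, rab⟩ := h
    exact ⟨rc, rd, re, rf, rn, rs, Nat.pos_of_ne_zero rb, rab⟩

theorem frobenius (h : Hyp G) {n : ℕ} (hn : n ∣ 443520) : n ∣ ∑ d ∈ n.divisors, cnt G d := by
  have hn0 : n ≠ 0 := fun e => by simp [e] at hn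
  show n ∣ ∑ d ∈ n.divisors, CfsgLib.Techniques.OrderClasses.cnt G d
  rw [CfsgLib.Techniques.OrderClasses.sum_cnt G hn0]
  exact CfsgLib.Base.Solutions.dvd_card_pow_eq_one (h.card ▸ hn)

theorem main_counts (h : Hyp G) : cnt G 6 = 36960 ∧ 0 < cnt G 8 ∧
    ∀ d ∈ S, d ≠ 4 → d ≠ 8 → d ≠ 6 → cnt G d = 0 := by
  have hS := sum_S h
  have sv : ∀ d ∈ S, cnt G d ∈ V5 := fun d hd => by simpa [V5] using small_values h d hd
  have c1 : cnt G 1 = 1 := CfsgLib.Techniques.OrderClasses.cnt_one G
  have sv64 : ∀ d ∈ ({64, 128} : Finset ℕ), cnt G d ∈ V5 := fun d hd =>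
    sv d ((by decide +kernel : ({64, 128} : Finset ℕ) ⊆ S) hd)
  have f6 := frobenius h (n := 6) (by norm_num)
  rw [show (6 : ℕ).divisors = {1, 2, 3, 6} by decide +kernel] at f6
  simp [c1, count_two h, count_three h] at f6
  have f9 := frobenius h (n := 9) (by norm_num)
  rw [show (9 : ℕ).divisors = {1, 3, 9} by decide +kernel] at f9
  simp [c1, count_three h] at f9
  have f128 := frobenius h (n := 128) (by norm_num)
  rw [show (128 : ℕ).divisors = {1, 2, 4, 8, 16, 32, 64, 128} by decide +kernel] at f128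
  simp [c1, count_two h] at f128
  have hsub : ∀ U : Finset ℕ, U ⊆ S → ∑ d ∈ U, cnt G d ≤ 133980 := fun U hU =>
    hS ▸ Finset.sum_le_sum_of_subset hU
  have hle := hsub {4, 8, 16, 32, 64, 128, 6, 9} (by decide +kernel)
  simp [← add_assoc] at hle
  have hz : cnt G 6 = 0 → ∀ d ∈ S, d ≠ 4 → d ≠ 8 → d ≠ 16 → d ≠ 32 → d ≠ 64 → d ≠ 128 → d ≠ 9 →
      cnt G d = 0 := by
    intro h6 d hd n4 n8 n16 n32 n64 n128 n9
    by_cases h10 : d = 10
    · rw [h10]; exact count_ten h
    have hd6 : 6 ∣ d := (show ∀ d ∈ S, d ∈ [4, 8, 16, 32, 64, 128, 9, 10] ∨ 6 ∣ d by decide +kernel)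
      d hd |>.resolve_left (by simp [n4, n8, n16, n32, n64, n128, n9, h10])
    by_contra hne
    have := cnt_of_dvd hd6 (Nat.pos_of_ne_zero hne)
    omega
  have heq : cnt G 6 = 0 → cnt G 4 + cnt G 8 + cnt G 16 + cnt G 32 + cnt G 64 + cnt G 128 +
      cnt G 9 = 133980 := by
    intro h6
    have hU : ({4, 8, 16, 32, 64, 128, 9} : Finset ℕ) ⊆ S := by decide +kernel
    have h3 := Finset.sum_sdiff (f := cnt G) hU
    have h0 : ∑ x ∈ S \ {4, 8, 16, 32, 64, 128, 9}, cnt G x = 0 :=
      Finset.sum_eq_zero fun d hd => by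
        simp only [Finset.mem_sdiff, Finset.mem_insert, Finset.mem_singleton, not_or] at hd
        obtain ⟨hd, n4, n8, n16, n32, n64, n128, n9⟩ := hd
        exact hz h6 d hd n4 n8 n16 n32 n64 n128 n9
    rw [hS, h0] at h3
    simp at h3
    omega
  obtain ⟨c16, c32, c64, c128, c9, c6, c8, c48⟩ :=
    search (sv 4 (by decide +kernel)) (sv 8 (by decide +kernel)) (sv 16 (by decide +kernel))
      (sv 32 (by decide +kernel)) (sv64 64 (by simp)) (sv64 128 (by simp))
      (sv 6 (by decide +kernel)) (sv 9 (by decide +kernel))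
      (cnt_of_dvd (by norm_num)) (cnt_of_dvd (by norm_num)) (cnt_of_dvd (by norm_num))
      (cnt_of_dvd (by norm_num)) (cnt_of_dvd (by norm_num)) (by omega) (by omega) (by omega)
      (by omega) heq
  refine ⟨c6, c8, fun d hd n4 n8 n6 => ?_⟩
  have hU : ({4, 8, 6} : Finset ℕ) ⊆ S := by decide +kernel
  have h3 := Finset.sum_sdiff (f := cnt G) hU
  rw [hS] at h3
  have h0 : ∑ x ∈ S \ {4, 8, 6}, cnt G x = 0 := by
    simp at h3
    omega
  exact Finset.sum_eq_zero_iff.1 h0 d (by simp [hd, n4, n8, n6])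

theorem orders_mem (h : Hyp G) (g : G) : orderOf g ∈ [1, 2, 3, 4, 5, 6, 7, 8, 11] := by
  have hp : 0 < cnt G (orderOf g) := cnt_pos_iff.2 ⟨g, rfl⟩
  rcases Finset.mem_union.1 (order_mem h g) with hT | hS
  · simp only [T, Finset.mem_insert, Finset.mem_singleton] at hT
    rcases hT with e | e | e | e | e | e <;> rw [e] <;> decide
  · by_contra hne
    simp only [List.mem_cons, List.not_mem_nil, or_false, not_or] at hne
    obtain ⟨-, -, -, n4, -, n6, -, n8, -⟩ := hne
    rw [(main_counts h).2.2 _ hS n4 n8 n6] at hp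
    exact lt_irrefl 0 hp

theorem simple_group (h : Hyp G) : IsSimpleGroup G := by
  haveI := Fintype.ofFinite G
  haveI h11p : Fact (Nat.Prime 11) := ⟨by norm_num⟩
  obtain ⟨hP11, hn11⟩ := sylow_prime h (p := 11) (m := 40320) (by norm_num) (by norm_num)
    (count_eleven h)
  have hG := h.card
  haveI : Nontrivial G := Finite.one_lt_card_iff_nontrivial.1 (by rw [hG]; norm_num)
  refine ⟨fun N hN => ?_⟩
  haveI := hN
  by_contra hno
  push Not at hno
  obtain ⟨hbot, htop⟩ := hno
  have hN1 : Nat.card N ≠ 1 := fun e => hbot (Subgroup.eq_bot_of_card_eq N e)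
  have hNd : Nat.card N ∣ 443520 := hG ▸ Subgroup.card_subgroup_dvd_card N
  by_cases h11N : 11 ∣ Nat.card N
  · obtain ⟨P⟩ := (inferInstance : Nonempty (Sylow 11 G))
    have hcop : ¬ 11 ∣ N.index := fun hd => by
      have := mul_dvd_mul h11N hd
      rw [N.card_mul_index, hG] at this
      norm_num at this
    have hmem : ∀ g : G, orderOf g = 11 → g ∈ N := fun g hg =>
      mem_of_coprime_index (hg ▸ (h11p.out.coprime_iff_not_dvd.2 hcop))
    have hPN : (P : Subgroup G) ≤ N := fun g hg => by
      rcases (Nat.dvd_prime h11p.out).1 (hP11 P ▸ Subgroup.orderOf_dvd_natCard _ hg) with e | e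
      · rw [orderOf_eq_one_iff.1 e]; exact N.one_mem
      · exact hmem g e
    have hi : N.index ∣ 5 * 11 := by
      have hsup := Sylow.normalizer_sup_eq_top' P hPN
      have h55 : Nat.card (normalizer ((P : Subgroup G) : Set G)) = 5 * 11 := by
        have h1 : Nat.card (normalizer ((P : Subgroup G) : Set G)) * Nat.card (Sylow 11 G) =
            Nat.card G := by
          rw [Sylow.card_eq_index_normalizer P]; exact Subgroup.card_mul_index _
        rw [show Nat.card (Sylow 11 G) = 8064 by omega, hG] at h1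
        omega
      rw [← h55, ← Subgroup.relIndex_top_right, ← hsup, Subgroup.relIndex_sup_right]
      exact Subgroup.relIndex_dvd_card _ _
    have hi5 : N.index = 5 := by
      rcases (Nat.dvd_prime (show Nat.Prime 5 by norm_num)).1
        ((h11p.out.coprime_iff_not_dvd.2 hcop).symm.dvd_of_dvd_mul_right hi) with e | e
      · exact absurd (Subgroup.index_eq_one.1 e) htop
      · exact e
    have hle : Nat.card {g : G // orderOf g = 11} + Nat.card {g : G // orderOf g = 7} ≤
        Nat.card N := by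
      simp only [Nat.card_eq_fintype_card, Fintype.card_subtype]
      rw [← Finset.card_union_of_disjoint]
      · refine Finset.card_le_card fun g hg => ?_
        simp only [Finset.mem_union, Finset.mem_filter, Finset.mem_univ, true_and] at hg ⊢
        refine mem_of_coprime_index ?_
        rw [hi5]
        rcases hg with e | e <;> rw [e] <;> norm_num
      · rw [Finset.disjoint_left]
        intro g
        simp only [Finset.mem_filter, Finset.mem_univ, true_and]
        omega
    rw [← cnt, ← cnt, count_eleven h, count_seven h] at hle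
    have := N.card_mul_index
    rw [hi5, hG] at this
    omega
  · obtain ⟨q, hq, hqN⟩ := Nat.exists_prime_and_dvd hN1
    haveI := Fact.mk hq
    have hq11 : q ≠ 11 := fun e => h11N (e ▸ hqN)
    have hqd : q ∣ 443520 := hqN.trans hNd
    have hq' : q ∈ (443520 : ℕ).primeFactors :=
      Nat.mem_primeFactors.2 ⟨hq, hqd, by norm_num⟩
    obtain ⟨g, hg⟩ := CfsgLib.Small.O7920.edge_of_normal (p := 11) hq11.symm N
      (by rw [hG]; norm_num) h11N fun b hb hb' => by
        have hb0 : b ≠ 0 := by rintro rfl; exact hb' (by simpa using hqN)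
        have hbd : q ^ b ∣ 443520 := hb.trans hNd
        have hb19 : b < 19 := by
          by_contra hc
          have h1 := Nat.le_of_dvd (by norm_num) hbd
          have h2 : 2 ^ b ≤ q ^ b := Nat.pow_le_pow_left hq.two_le b
          have h3 : 2 ^ 19 ≤ 2 ^ b := Nat.pow_le_pow_right (by norm_num) (by omega)
          omega
        have key : ∀ r ∈ ({2, 3, 5, 7} : Finset ℕ), ∀ b < 19, b ≠ 0 → r ^ b ∣ 443520 →
            ¬ 11 ∣ r ^ b - 1 := by decide +kernel
        refine key q ?_ b hb19 hb0 hbd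
        have hfac : q ∣ 2 ^ 7 * (3 ^ 2 * (5 * (7 * 11))) := hqd
        simp only [Finset.mem_insert, Finset.mem_singleton]
        rcases hq.dvd_mul.1 hfac with e | e
        · exact Or.inl ((Nat.prime_dvd_prime_iff_eq hq Nat.prime_two).1 (hq.dvd_of_dvd_pow e))
        rcases hq.dvd_mul.1 e with e | e
        · exact Or.inr (Or.inl
            ((Nat.prime_dvd_prime_iff_eq hq Nat.prime_three).1 (hq.dvd_of_dvd_pow e)))
        rcases hq.dvd_mul.1 e with e | e
        · exact Or.inr (Or.inr (Or.inl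
            ((Nat.prime_dvd_prime_iff_eq hq (by norm_num)).1 e)))
        rcases hq.dvd_mul.1 e with e | e
        · exact Or.inr (Or.inr (Or.inr
            ((Nat.prime_dvd_prime_iff_eq hq (by norm_num)).1 e)))
        · exact absurd ((Nat.prime_dvd_prime_iff_eq hq h11p.out).1 e) hq11
    have := order_prime (g := g) h11p.out (fun y hy => cent_eleven h hy)
      (hg ▸ dvd_mul_right 11 q)
    rw [hg] at this
    have := hq.two_le
    omega

theorem not_comm (h : Hyp G) : ¬ ∀ a b : G, a * b = b * a := by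
  intro hc
  haveI : Fact (Nat.Prime 11) := ⟨by norm_num⟩
  haveI : Fact (Nat.Prime 5) := ⟨by norm_num⟩
  obtain ⟨x, hx⟩ := exists_prime_orderOf_dvd_card' (G := G) 11 (by rw [h.card]; norm_num)
  obtain ⟨y, hy⟩ := exists_prime_orderOf_dvd_card' (G := G) 5 (by rw [h.card]; norm_num)
  have hd := dvd_centCard (show Commute y x from hc y x)
  rw [hy, cent_eleven h hx] at hd
  norm_num at hd

end CfsgLib.M22Nse.CountsP1
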