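import Cfsg.Agent.Lib.M22Nse.Counts

/-!
# S3594, piece P1: the local structure at two and three

The numbers of elements of order three and six force one class of elements of order three with
centralisers of order 36.  A Sylow 3-subgroup centralising an involution would be a TI subgroup
normal in the centraliser of that involution, which is too small for the class of involutions.
-/

set_option autoImplicit false
set_option linter.unusedSectionVars false
set_option linter.style.haveILetI false

open scoped Classical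

namespace CfsgLib.M22Nse.CountsP1

open Subgroup

universe u

variable {G : Type u} [Group G] [Finite G]

theorem no_order (h : Hyp G) {n : ℕ} (hn : n ∉ [1, 2, 3, 4, 5, 6, 7, 8, 11]) (g : G) :
    orderOf g ≠ n := fun e => hn (e ▸ orders_mem h g)

/-- commuting elements of prime orders give an element of the product order -/
theorem not_prime_dvd_cen (h : Hyp G) {y : G} {p q : ℕ} [Fact p.Prime] (hy : orderOf y = q)
    (hc : p.Coprime q) (hn : p * q ∉ [1, 2, 3, 4, 5, 6, 7, 8, 11]) :
    ¬ p ∣ Nat.card (centralizer ({y} : Set G)) := by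
  intro hd
  obtain ⟨g, hg⟩ := exists_prime_orderOf_dvd_card' p hd
  rw [← Subgroup.orderOf_coe] at hg
  have hcomm : Commute (g : G) y := mem_centralizer_singleton_iff.1 g.2
  refine no_order h hn ((g : G) * y) ?_
  rw [hcomm.orderOf_mul_eq_mul_orderOf_of_coprime (by rw [hg, hy]; exact hc), hg, hy]

theorem sylow_card (h : Hyp G) {p a m : ℕ} [Fact p.Prime] (hm : 443520 = p ^ a * m) (hp : ¬ p ∣ m)
    (P : Sylow p G) : Nat.card (P : Subgroup G) = p ^ a := by
  have hpp : p.Prime := Fact.out
  rw [P.card_eq_multiplicity, h.card, hm, Nat.factorization_mul (pow_ne_zero _ hpp.ne_zero)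
    (fun e => hp (by rw [e]; exact dvd_zero p)), Finsupp.add_apply, hpp.factorization_pow,
    Finsupp.single_eq_same, Nat.factorization_eq_zero_of_not_dvd hp, add_zero]

theorem syl3_card [Fact (Nat.Prime 3)] (h : Hyp G) (P : Sylow 3 G) :
    Nat.card (P : Subgroup G) = 9 := by
  simpa using sylow_card h (p := 3) (a := 2) (m := 49280) (by norm_num) (by norm_num) P

theorem syl3_comm [Fact (Nat.Prime 3)] (h : Hyp G) (P : Sylow 3 G) {a b : G}
    (ha : a ∈ (P : Subgroup G)) (hb : b ∈ (P : Subgroup G)) : a * b = b * a :=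
  congrArg Subtype.val (IsPGroup.commutative_of_card_eq_prime_sq (p := 3)
    (G := (P : Subgroup G)) (by rw [syl3_card h P]; norm_num) ⟨a, ha⟩ ⟨b, hb⟩)

theorem syl3_le_cen [Fact (Nat.Prime 3)] (h : Hyp G) (P : Sylow 3 G) {y : G}
    (hy : y ∈ (P : Subgroup G)) : (P : Subgroup G) ≤ centralizer ({y} : Set G) := fun _ ha =>
  mem_centralizer_singleton_iff.2 (syl3_comm h P ha hy)

theorem syl3_order [Fact (Nat.Prime 3)] (h : Hyp G) (P : Sylow 3 G) {y : G}
    (hy : y ∈ (P : Subgroup G)) (h1 : y ≠ 1) : orderOf y = 3 := by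
  have hd := Subgroup.orderOf_dvd_natCard _ hy
  rw [syl3_card h P, show (9 : ℕ) = 3 ^ 2 by norm_num] at hd
  obtain ⟨i, hi, hio⟩ := (Nat.dvd_prime_pow Nat.prime_three).1 hd
  interval_cases i
  · exact absurd (orderOf_eq_one_iff.1 (by simpa using hio)) h1
  · simpa using hio
  · exact absurd hio (no_order h (by decide) y)

theorem exists_syl3 [Fact (Nat.Prime 3)] {y : G} (hy : orderOf y = 3) :
    ∃ P : Sylow 3 G, y ∈ (P : Subgroup G) := by
  obtain ⟨P, hP⟩ := (IsPGroup.of_card (n := 1)
    (show Nat.card (zpowers y) = 3 ^ 1 by rw [Nat.card_zpowers, hy, pow_one])).exists_le_sylow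
  exact ⟨P, hP (mem_zpowers y)⟩

/-- a two-element commuting with an element of order three -/
theorem two_elt (h : Hyp G) {y g : G} (hy : orderOf y = 3) (hg : Commute g y) {j : ℕ}
    (hj : g ^ 2 ^ j = 1) : g * g = 1 := by
  obtain ⟨e, -, he⟩ := (Nat.dvd_prime_pow Nat.prime_two).1 (orderOf_dvd_of_pow_eq_one hj)
  have hc := hg.orderOf_mul_eq_mul_orderOf_of_coprime
    (by rw [he, hy]; exact Nat.Coprime.pow_left e (by norm_num))
  rw [he, hy] at hc
  have hmem := orders_mem h (g * y)
  rw [hc] at hmem
  have he1 : e ≤ 1 := by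
    by_contra hlt
    have h12 : 12 ≤ 2 ^ e * 3 := by
      have := Nat.pow_le_pow_right (show 0 < 2 by norm_num) (show 2 ≤ e by omega)
      omega
    have hb : ∀ m ∈ [1, 2, 3, 4, 5, 6, 7, 8, 11], m ≤ 11 := by decide
    have := hb _ hmem
    omega
  rw [← pow_two]
  refine orderOf_dvd_iff_pow_eq_one.1 ?_
  rw [he]
  exact (pow_dvd_pow 2 he1).trans (by norm_num)

/-- the centraliser of an element of order three, and the involutions in it -/
theorem cen_three_shape (h : Hyp G) {y : G} (hy : orderOf y = 3) :
    ∃ a, a ≤ 7 ∧ Nat.card (centralizer ({y} : Set G)) = 2 ^ a * 9 ∧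
      2 ^ a ≤ centCnt y 2 + 1 := by
  haveI : Fact (Nat.Prime 2) := ⟨Nat.prime_two⟩
  haveI : Fact (Nat.Prime 3) := ⟨Nat.prime_three⟩
  haveI : Fact (Nat.Prime 5) := ⟨by norm_num⟩
  haveI : Fact (Nat.Prime 7) := ⟨by norm_num⟩
  haveI : Fact (Nat.Prime 11) := ⟨by norm_num⟩
  set C := centralizer ({y} : Set G) with hCdef
  have hd : Nat.card C ∣ 1152 * (5 * 7 * 11) := by
    have := C.card_subgroup_dvd_card
    rw [h.card] at this
    simpa using this
  have hd' : Nat.card C ∣ 2 ^ 7 * 9 := by
    refine Nat.Coprime.dvd_of_dvd_mul_right (Nat.Coprime.mul_right (Nat.Coprime.mul_right ?_ ?_) ?_) hd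
    · exact ((Nat.Prime.coprime_iff_not_dvd (by norm_num)).2
        (not_prime_dvd_cen h (p := 5) hy (by norm_num) (by decide))).symm
    · exact ((Nat.Prime.coprime_iff_not_dvd (by norm_num)).2
        (not_prime_dvd_cen h (p := 7) hy (by norm_num) (by decide))).symm
    · exact ((Nat.Prime.coprime_iff_not_dvd (by norm_num)).2
        (not_prime_dvd_cen h (p := 11) hy (by norm_num) (by decide))).symm
  obtain ⟨P, hyP⟩ := exists_syl3 hy
  have h9 : 9 ∣ Nat.card C := syl3_card h P ▸ Subgroup.card_dvd_of_le (syl3_le_cen h P hyP)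
  obtain ⟨k, hk⟩ := h9
  rw [hk, mul_comm 9 k] at hd'
  obtain ⟨a, ha, rfl⟩ := (Nat.dvd_prime_pow Nat.prime_two).1
    ((Nat.mul_dvd_mul_iff_right (by norm_num : 0 < 9)).1 hd')
  refine ⟨a, ha, by rw [hk, mul_comm], ?_⟩
  obtain ⟨V⟩ : Nonempty (Sylow 2 C) := inferInstance
  have hV : Nat.card (V : Subgroup C) = 2 ^ a := by
    rw [V.card_eq_multiplicity, hk, mul_comm 9, Nat.factorization_mul (by positivity) (by norm_num),
      Finsupp.add_apply, Nat.prime_two.factorization_pow, Finsupp.single_eq_same,
      Nat.factorization_eq_zero_of_not_dvd (show ¬ 2 ∣ 9 by norm_num), add_zero]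
  let f : ↥(V : Subgroup C) → Option {b : G // Commute y b ∧ orderOf b = 2} := fun v =>
    if hv : ((v : C) : G) = 1 then none else some ⟨((v : C) : G),
      (show Commute ((v : C) : G) y from mem_centralizer_singleton_iff.1 (v : C).2).symm,
      orderOf_eq_prime (by
        obtain ⟨j, hj⟩ := V.2 v
        rw [pow_two]
        exact two_elt h hy (mem_centralizer_singleton_iff.1 (v : C).2)
          (congrArg Subtype.val (congrArg Subtype.val hj :) :)) hv⟩
  have hf : Function.Injective f := by
    intro v w hvw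
    refine Subtype.ext (Subtype.ext ?_)
    show ((v : C) : G) = ((w : C) : G)
    by_cases hv : ((v : C) : G) = 1 <;> by_cases hw : ((w : C) : G) = 1
    · rw [hv, hw]
    · simp only [f] at hvw
      rw [dif_pos hv, dif_neg hw] at hvw
      exact absurd hvw (by simp)
    · simp only [f] at hvw
      rw [dif_neg hv, dif_pos hw] at hvw
      exact absurd hvw (by simp)
    · simp only [f] at hvw
      rw [dif_neg hv, dif_neg hw] at hvw
      have e := Option.some.inj hvw
      exact Subtype.mk.inj e
  have := Nat.card_le_card_of_injective f hf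
  rw [hV, Finite.card_option] at this
  exact this

theorem cent_conj_inv {v w : G} (hvw : IsConj v w) (m : ℕ) : centCnt v m = centCnt w m := by
  obtain ⟨c, rfl⟩ := isConj_iff.1 hvw
  refine Nat.card_congr ((MulAut.conj c).toEquiv.subtypeEquiv fun y => ?_)
  simp [conj_order, Commute.conj_iff]

/-- one class of elements of order three, centralisers of order 36 with three involutions -/
theorem three_class (h : Hyp G) : (∀ u v : G, orderOf u = 3 → orderOf v = 3 → IsConj u v) ∧
    ∀ u : G, orderOf u = 3 →
      Nat.card (centralizer ({u} : Set G)) = 36 ∧ centCnt u 2 = 3 := by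
  haveI := Fintype.ofFinite G
  set s := Finset.univ.filter (fun x : G => orderOf x = 3) with hs
  have hcard : s.card = 12320 := by
    rw [← count_three h, cnt, Nat.card_eq_fintype_card, Fintype.card_subtype]
  have hsum : ∑ x ∈ s, (centCnt x 2 + 1) = 49280 := by
    rw [Finset.sum_add_distrib, Finset.sum_const, smul_eq_mul, mul_one, hcard,
      ← cnt_prod (a := 3) (b := 2) (by norm_num), (main_counts h).1]
  have key : ∀ u : G, orderOf u = 3 → ∃ a, a ≤ 7 ∧
      Nat.card (centralizer ({u} : Set G)) = 2 ^ a * 9 ∧ 2 ^ a = centCnt u 2 + 1 ∧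
      s.filter (fun x => IsConj u x) = s ∧ s.card * 2 ^ a = 49280 := by
    intro u hu
    obtain ⟨a, ha, hC, hi⟩ := cen_three_shape h hu
    set t := s.filter (fun x => IsConj u x) with ht
    have htc : t.card * (2 ^ a * 9) = 443520 := by
      have h1 : t.card = (centralizer ({u} : Set G)).index := by
        rw [← CfsgLib.Base.Solutions.card_conjClass, Nat.card_coe_set_eq, ← Set.ncard_coe_finset]
        congr 1
        ext w
        simp only [ht, hs, Finset.coe_filter, Finset.mem_filter, Finset.mem_univ, true_and,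
          Set.mem_setOf_eq, ConjClasses.mem_carrier_iff_mk_eq, ConjClasses.mk_eq_mk_iff_isConj]
        exact ⟨fun hw => hw.2.symm, fun hw => ⟨by
          obtain ⟨c, rfl⟩ := isConj_iff.1 hw.symm
          rw [conj_order, hu], hw.symm⟩⟩
      rw [h1, ← hC, mul_comm, Subgroup.card_mul_index, h.card]
    have htc' : t.card * 2 ^ a = 49280 := by
      rw [← mul_assoc] at htc
      omega
    have htsum : ∑ x ∈ t, (centCnt x 2 + 1) = t.card * (centCnt u 2 + 1) := by
      rw [Finset.sum_congr rfl (fun x hx => by
        rw [← cent_conj_inv (Finset.mem_filter.1 hx).2 2]), Finset.sum_const, smul_eq_mul]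
    have hsplit := Finset.sum_sdiff (f := fun x => centCnt x 2 + 1)
      (Finset.filter_subset (fun x => IsConj u x) s)
    rw [hsum, ← ht, htsum] at hsplit
    have hge : t.card * 2 ^ a ≤ t.card * (centCnt u 2 + 1) := Nat.mul_le_mul_left _ hi
    have hzero : ∑ x ∈ s \ t, (centCnt x 2 + 1) = 0 := by omega
    have hts : t = s := by
      refine Finset.Subset.antisymm (Finset.filter_subset _ _) fun x hx => ?_
      by_contra hxt
      have := Finset.sum_eq_zero_iff.1 hzero x (Finset.mem_sdiff.2 ⟨hx, hxt⟩)
      omega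
    have htpos : 0 < t.card := Finset.card_pos.2
      ⟨u, Finset.mem_filter.2 ⟨by simp [hs, hu], IsConj.refl u⟩⟩
    refine ⟨a, ha, hC, Nat.eq_of_mul_eq_mul_left htpos (by omega), hts, ?_⟩
    rw [← hts]
    exact htc'
  refine ⟨fun u v hu hv => ?_, fun u hu => ?_⟩
  · obtain ⟨a, -, -, -, hts, -⟩ := key u hu
    have : v ∈ s.filter (fun x => IsConj u x) := by rw [hts]; simp [hs, hv]
    exact (Finset.mem_filter.1 this).2
  · obtain ⟨a, -, hC, hi, -, hsz⟩ := key u hu
    rw [hcard] at hsz
    have h4 : 2 ^ a = 4 := by omega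
    rw [h4] at hC hi
    exact ⟨hC, by omega⟩

theorem cent_three (h : Hyp G) {u : G} (hu : orderOf u = 3) :
    Nat.card (centralizer ({u} : Set G)) = 36 := ((three_class h).2 u hu).1

/-- a group of order nine has its elements other than one among those of order three -/
theorem syl3_set [Fact (Nat.Prime 3)] (h : Hyp G) (P : Sylow 3 G) :
    Nat.card {y : (P : Subgroup G) // (y : G) ≠ 1} = 8 := by
  have h1 : Nat.card {y : (P : Subgroup G) // ¬ (y = 1)} = 8 := by
    haveI := Fintype.ofFinite (P : Subgroup G)
    rw [Nat.card_eq_fintype_card, Fintype.card_subtype_compl, ← Nat.card_eq_fintype_card,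
      syl3_card h P, Fintype.card_subtype_eq]
  refine Eq.trans (Nat.card_congr (Equiv.subtypeEquivRight fun y => ?_)) h1
  simp

/-- pairs of an element of order three and a Sylow subgroup containing it -/
theorem pairs (h : Hyp G) [Fact (Nat.Prime 3)] :
    Nat.card (Σ y : {g : G // orderOf g = 3}, {P : Sylow 3 G // (y : G) ∈ (P : Subgroup G)}) =
      8 * Nat.card (Sylow 3 G) := by
  haveI := Fintype.ofFinite (Sylow 3 G)
  have e : (Σ y : {g : G // orderOf g = 3}, {P : Sylow 3 G // (y : G) ∈ (P : Subgroup G)}) ≃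
      Σ P : Sylow 3 G, {y : (P : Subgroup G) // (y : G) ≠ 1} :=
    { toFun := fun s => ⟨s.2.1, ⟨⟨s.1.1, s.2.2⟩, fun e => by
        have := s.1.2
        rw [show (s.1.1 : G) = 1 from e, orderOf_one] at this
        omega⟩⟩
      invFun := fun s => ⟨⟨(s.2.1 : G), syl3_order h s.1 s.2.1.2 s.2.2⟩, ⟨s.1, s.2.1.2⟩⟩
      left_inv := fun _ => rfl
      right_inv := fun _ => rfl }
  rw [Nat.card_congr e, Nat.card_sigma, Finset.sum_congr rfl (fun P _ => syl3_set h P),
    Finset.sum_const, smul_eq_mul, Finset.card_univ, Nat.card_eq_fintype_card]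
  ring

theorem norm3_mul (h : Hyp G) [Fact (Nat.Prime 3)] (P : Sylow 3 G) :
    Nat.card (normalizer ((P : Subgroup G) : Set G)) * Nat.card (Sylow 3 G) = 443520 := by
  rw [Sylow.card_eq_index_normalizer P]
  exact (Subgroup.card_mul_index _).trans h.card

/-- the Sylow three-subgroups containing an element of order three -/
theorem card_syl_containing (h : Hyp G) [Fact (Nat.Prime 3)] {y : G} (hy : orderOf y = 3) :
    Nat.card {P : Sylow 3 G // y ∈ (P : Subgroup G)} =
      Nat.card (Sylow 3 (centralizer ({y} : Set G))) := by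
  set C := centralizer ({y} : Set G) with hC
  have hC36 := cent_three h hy
  have hcard : ∀ R : Sylow 3 C, Nat.card ((R : Subgroup C).map C.subtype) =
      3 ^ (Nat.card G).factorization 3 := by
    intro R
    rw [Subgroup.card_map_of_injective C.subtype_injective, R.card_eq_multiplicity]
    congr 1
    rw [← hC] at hC36
    rw [hC36, h.card, show (36 : ℕ) = 3 ^ 2 * 4 by norm_num,
      show (443520 : ℕ) = 3 ^ 2 * 49280 by norm_num, Nat.factorization_mul (by norm_num) (by norm_num),
      Nat.factorization_mul (by norm_num) (by norm_num), Finsupp.add_apply, Finsupp.add_apply,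
      Nat.factorization_eq_zero_of_not_dvd (show ¬ 3 ∣ 4 by norm_num),
      Nat.factorization_eq_zero_of_not_dvd (show ¬ 3 ∣ 49280 by norm_num)]
  refine Nat.card_congr
    { toFun := fun P => P.1.subtype (syl3_le_cen h P.1 P.2)
      invFun := fun R => ⟨Sylow.ofCard ((R : Subgroup C).map C.subtype) (hcard R), ?_⟩
      left_inv := ?_
      right_inv := ?_ }
  · -- `y` is central, so it lies in every Sylow subgroup of its centraliser
    rw [Sylow.coe_ofCard]
    have hyC : y ∈ C := mem_centralizer_singleton_iff.2 rfl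
    have hsup : IsPGroup 3 ((R : Subgroup C) ⊔ zpowers (⟨y, hyC⟩ : C) : Subgroup C) := by
      refine IsPGroup.to_sup_of_normal_right' R.2 (IsPGroup.of_card (n := 1) ?_) ?_
      · rw [Nat.card_zpowers, ← Subgroup.orderOf_coe, pow_one]; exact hy
      · intro r _
        refine mem_normalizer_iff.2 fun v => ?_
        have hcomm : ∀ v ∈ zpowers (⟨y, hyC⟩ : C), r * v * r⁻¹ = v := by
          intro v hv
          obtain ⟨k, rfl⟩ := mem_zpowers_iff.1 hv
          have hc : Commute r (⟨y, hyC⟩ : C) := Subtype.ext (mem_centralizer_singleton_iff.1 r.2)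
          rw [(hc.zpow_right k).eq, mul_inv_cancel_right]
        refine ⟨fun hv => by rw [hcomm v hv]; exact hv, fun hv => ?_⟩
        have h2 := hcomm _ hv
        have : r * v * r⁻¹ = v := mul_left_cancel (mul_right_cancel h2)
        rwa [this] at hv
    have := R.3 hsup le_sup_left
    exact ⟨⟨y, hyC⟩, this ▸ mem_sup_right (mem_zpowers _), rfl⟩
  · rintro ⟨P, hP⟩
    refine Subtype.ext (Sylow.ext ?_)
    rw [Sylow.coe_ofCard, Sylow.coe_subtype, Subgroup.subgroupOf_map_subtype,
      inf_eq_left.2 (syl3_le_cen h P hP)]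
  · intro R
    refine Sylow.ext ?_
    rw [Sylow.coe_subtype, Sylow.coe_ofCard]
    exact Subgroup.comap_map_eq_self_of_injective C.subtype_injective _

/-- a Sylow three-subgroup centralises no involution -/
theorem not_nine (h : Hyp G) (z : G) (hz : orderOf z = 2) :
    ¬ 9 ∣ Nat.card (centralizer ({z} : Set G)) := by
  intro h9
  haveI : Fact (Nat.Prime 2) := ⟨Nat.prime_two⟩
  haveI : Fact (Nat.Prime 3) := ⟨Nat.prime_three⟩
  set C := centralizer ({z} : Set G) with hCdef
  have hcardR : ∀ R : Sylow 3 C, Nat.card (R : Subgroup C) = 9 := by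
    intro R
    obtain ⟨k, hk⟩ := IsPGroup.iff_card.1 R.2
    have h1 : (3 : ℕ) ^ k ∣ 443520 := by
      rw [← hk, ← h.card]
      exact (Subgroup.card_subgroup_dvd_card _).trans C.card_subgroup_dvd_card
    have h2 : 3 ^ 2 ∣ Nat.card (R : Subgroup C) := R.pow_dvd_card_of_pow_dvd_card (by simpa using h9)
    rw [hk] at h2
    have hk2 : 2 ≤ k := (Nat.pow_dvd_pow_iff_le_right (by norm_num)).1 h2
    have hk3 : k < 3 := by
      by_contra hlt
      have := (pow_dvd_pow 3 (show 3 ≤ k by omega)).trans h1
      norm_num at this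
    rw [hk, show k = 2 by omega]
    norm_num
  -- each is a Sylow subgroup of `G` centralising `z`
  have toG : ∀ R : Sylow 3 C, ∃ P : Sylow 3 G, (P : Subgroup G) = (R : Subgroup C).map C.subtype := by
    intro R
    refine ⟨Sylow.ofCard ((R : Subgroup C).map C.subtype) ?_, Sylow.coe_ofCard _ _⟩
    rw [Subgroup.card_map_of_injective C.subtype_injective, hcardR,
      h.card, show (443520 : ℕ) = 3 ^ 2 * 49280 by norm_num,
      Nat.factorization_mul (by norm_num) (by norm_num), Finsupp.add_apply,
      Nat.prime_three.factorization_pow, Finsupp.single_eq_same,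
      Nat.factorization_eq_zero_of_not_dvd (show ¬ 3 ∣ 49280 by norm_num)]
    norm_num
  obtain ⟨R₀⟩ : Nonempty (Sylow 3 C) := inferInstance
  obtain ⟨P, hP⟩ := toG R₀
  have hPC : ∀ a ∈ (P : Subgroup G), a * z = z * a := by
    intro a ha
    rw [hP] at ha
    obtain ⟨b, -, rfl⟩ := ha
    exact mem_centralizer_singleton_iff.1 b.2
  -- the centraliser of an element of `P` has one Sylow three-subgroup
  have huniq : ∀ x ∈ (P : Subgroup G), x ≠ 1 →
      (∀ P' : Sylow 3 G, x ∈ (P' : Subgroup G) → P' = P) ∧
      centralizer ({x} : Set G) ≤ C ⊓ normalizer ((P : Subgroup G) : Set G) := by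
    intro x hx hx1
    have hx3 := syl3_order h P hx hx1
    set X := centralizer ({x} : Set G) with hX
    obtain ⟨hX36, hX3⟩ : Nat.card X = 36 ∧ centCnt x 2 = 3 := (three_class h).2 x hx3
    have hzX : z ∈ X := mem_centralizer_singleton_iff.2 (hPC x hx).symm
    -- the three involutions and the identity form the normal four group
    obtain ⟨V⟩ : Nonempty (Sylow 2 X) := inferInstance
    have hV : Nat.card (V : Subgroup X) = 4 := by
      rw [V.card_eq_multiplicity, hX36, show (36 : ℕ) = 2 ^ 2 * 9 by norm_num,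
        Nat.factorization_mul (by norm_num) (by norm_num), Finsupp.add_apply,
        Nat.prime_two.factorization_pow, Finsupp.single_eq_same,
        Nat.factorization_eq_zero_of_not_dvd (show ¬ 2 ∣ 9 by norm_num)]
      norm_num
    set J : Set X := {b | b * b = 1} with hJ
    have hJcard : J.ncard ≤ 4 := by
      have h1 : J ⊆ insert 1 {b | Commute x (b : G) ∧ orderOf (b : G) = 2} := by
        intro b hb
        by_cases hb1 : b = 1
        · exact Or.inl hb1
        · refine Or.inr ⟨(show Commute (b : G) x from mem_centralizer_singleton_iff.1 b.2).symm,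
            orderOf_eq_prime (by rw [pow_two]; exact congrArg Subtype.val hb)
              (fun e => hb1 (Subtype.ext e))⟩
      refine (Set.ncard_le_ncard h1 (Set.toFinite _)).trans ((Set.ncard_insert_le _ _).trans ?_)
      have hinj : Nat.card {b : X | Commute x (b : G) ∧ orderOf (b : G) = 2} ≤ centCnt x 2 :=
        Nat.card_le_card_of_injective
          (fun b => (⟨(b.1 : G), b.2⟩ : {y : G // Commute x y ∧ orderOf y = 2}))
          fun b c e => Subtype.ext (Subtype.ext (congrArg Subtype.val e :))
      rw [Nat.card_coe_set_eq] at hinj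
      omega
    have hVJ : ((V : Subgroup X) : Set X) = J := by
      refine Set.eq_of_subset_of_ncard_le ?_ ?_ (Set.toFinite _)
      · intro b hb
        obtain ⟨j, hj⟩ := V.2 ⟨b, hb⟩
        exact Subtype.ext (two_elt h hx3 (mem_centralizer_singleton_iff.1 b.2)
          (congrArg Subtype.val (congrArg Subtype.val hj :) :))
      · rw [show (((V : Subgroup X) : Set X)).ncard = 4 from (Nat.card_coe_set_eq _).symm.trans hV]
        exact hJcard
    have hmemJ : ∀ b : X, b ∈ (V : Subgroup X) ↔ b * b = 1 := fun b => Set.ext_iff.1 hVJ b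
    have hzz : (⟨z, hzX⟩ : X) ∈ (V : Subgroup X) := (hmemJ _).2 (Subtype.ext (by
      show z * z = 1
      have := pow_orderOf_eq_one z
      rwa [hz, pow_two] at this))
    have hVn : (V : Subgroup X).Normal := ⟨fun b hb c => (hmemJ _).2 (by
      have := (hmemJ b).1 hb
      calc c * b * c⁻¹ * (c * b * c⁻¹) = c * (b * b) * c⁻¹ := by group
        _ = 1 := by rw [this]; group)⟩
    -- `P` acts trivially on it, as it fixes `z`
    set PX := (P : Subgroup G).subgroupOf X with hPX
    have hPX9 : Nat.card PX = 9 := by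
      rw [hPX, Nat.card_congr (Subgroup.subgroupOfEquivOfLe (syl3_le_cen h P hx)).toEquiv,
        syl3_card h P]
    have hcz : ∀ c ∈ PX, c * ⟨z, hzX⟩ = ⟨z, hzX⟩ * c := fun c hc => Subtype.ext (hPC _ hc)
    have hcomm : ∀ c ∈ PX, ∀ b ∈ (V : Subgroup X), c * b = b * c := by
      intro c hc b hb
      letI : MulAction PX (V : Subgroup X) :=
        { smul := fun p b => ⟨(p : X) * b * (p : X)⁻¹, hVn.conj_mem _ b.2 _⟩
          one_smul := fun b => Subtype.ext (show (1 : X) * (b : X) * (1 : X)⁻¹ = b by simp)
          mul_smul := fun p q b => Subtype.ext (show (p : X) * q * b * ((p : X) * q)⁻¹ =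
            p * (q * b * (q : X)⁻¹) * (p : X)⁻¹ by group) }
      have hmod := (IsPGroup.of_card (n := 2) (by rw [hPX9]; norm_num) :
        IsPGroup 3 PX).card_modEq_card_fixedPoints (V : Subgroup X)
      rw [hV] at hmod
      set Fx := MulAction.fixedPoints PX (V : Subgroup X) with hFx
      have hfix : ∀ v : (V : Subgroup X), v ∈ Fx ↔ ∀ p ∈ PX, p * (v : X) = (v : X) * p :=
        fun v => ⟨fun hv p hp => mul_inv_eq_iff_eq_mul.1 (congrArg Subtype.val (hv ⟨p, hp⟩) :),
          fun hv p => Subtype.ext
            (show (p : X) * v * (p : X)⁻¹ = v from mul_inv_eq_iff_eq_mul.2 (hv p p.2))⟩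
      have h1 : (1 : (V : Subgroup X)) ∈ Fx := (hfix _).2 fun p _ => by simp
      have h2 : (⟨_, hzz⟩ : (V : Subgroup X)) ∈ Fx := (hfix _).2 hcz
      have hne : (1 : (V : Subgroup X)) ≠ ⟨_, hzz⟩ := fun e => by
        have e1 : (1 : G) = z := congrArg Subtype.val (congrArg Subtype.val e :)
        rw [← e1, orderOf_one] at hz
        omega
      have hge : 2 ≤ Nat.card Fx := by
        rw [Nat.card_coe_set_eq]
        refine le_trans (le_of_eq (Set.ncard_pair hne).symm) ?_
        exact Set.ncard_le_ncard (Set.insert_subset h1 (Set.singleton_subset_iff.2 h2))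
          (Set.toFinite _)
      have hle : Nat.card Fx ≤ 4 := hV ▸ Nat.card_le_card_of_injective _ Subtype.val_injective
      have h4 : Nat.card Fx = 4 := by
        rw [Nat.ModEq] at hmod
        omega
      have hall : Fx = Set.univ := Set.eq_of_subset_of_ncard_le (Set.subset_univ _)
        (by rw [Set.ncard_univ, hV, ← Nat.card_coe_set_eq, h4]) (Set.toFinite _)
      exact (hfix ⟨b, hb⟩).1 (hall ▸ Set.mem_univ _) c hc
    -- hence `P` is normal in the centraliser
    have hsup : PX ⊔ (V : Subgroup X) = ⊤ := by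
      refine Subgroup.eq_top_of_card_eq _ (Nat.dvd_antisymm (Subgroup.card_subgroup_dvd_card _) ?_)
      rw [hX36]
      have d1 : 9 ∣ Nat.card (PX ⊔ (V : Subgroup X) : Subgroup X) :=
        hPX9 ▸ Subgroup.card_dvd_of_le le_sup_left
      have d2 : 4 ∣ Nat.card (PX ⊔ (V : Subgroup X) : Subgroup X) :=
        hV ▸ Subgroup.card_dvd_of_le le_sup_right
      exact (show Nat.Coprime 9 4 by norm_num).mul_dvd_of_dvd_of_dvd d1 d2
    have hPXn : PX.Normal := by
      refine Subgroup.normalizer_eq_top_iff.1 (top_unique ?_)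
      rw [← hsup]
      refine sup_le Subgroup.le_normalizer fun b hb => mem_normalizer_iff.2 fun c => ?_
      constructor
      · intro hc
        rwa [show b * c * b⁻¹ = c by rw [← hcomm c hc b hb, mul_inv_cancel_right]]
      · intro hc
        have := hcomm _ hc b hb
        rwa [show b * c * b⁻¹ = c by
          calc b * c * b⁻¹ = b⁻¹ * ((b * c * b⁻¹) * b) * 1 := by rw [this]; group
            _ = c := by group] at hc
    refine ⟨fun P' hP' => ?_, fun c hc => ?_⟩
    swap
    · have hVab : (⟨c, hc⟩ : X) * ⟨z, hzX⟩ = ⟨z, hzX⟩ * ⟨c, hc⟩ := by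
        have hle : PX ⊔ (V : Subgroup X) ≤ centralizer ({⟨z, hzX⟩} : Set X) := by
          refine sup_le (fun p hp => mem_centralizer_singleton_iff.2 (hcz p hp)) fun b hb => ?_
          refine mem_centralizer_singleton_iff.2 ?_
          have h1 := (hmemJ _).1 (mul_mem hb hzz)
          have h2 := (hmemJ _).1 hb
          have h3 := (hmemJ _).1 hzz
          set w : X := ⟨z, hzX⟩
          calc b * w = b * w * ((b * b) * 1) := by rw [h2]; group
            _ = (b * w * b * w) * (w * b) := by
              rw [show b * w * b * w * (w * b) = b * w * b * (w * w) * b by group, h3]; group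
            _ = w * b := by rw [show b * w * b * w = b * w * (b * w) by group, h1]; group
        exact mem_centralizer_singleton_iff.1 (hle (hsup ▸ Subgroup.mem_top _))
      refine ⟨mem_centralizer_singleton_iff.2 (congrArg Subtype.val hVab :),
        mem_normalizer_iff.2 fun v => ⟨fun hv => ?_, fun hv => ?_⟩⟩
      · have := hPXn.conj_mem (⟨v, syl3_le_cen h P hx hv⟩ : X) (by exact hv) ⟨c, hc⟩
        exact this
      · have h2 := hPXn.conj_mem (⟨c * v * c⁻¹, syl3_le_cen h P hx hv⟩ : X) (by exact hv) ⟨c, hc⟩⁻¹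
        have e : c⁻¹ * (c * v * c⁻¹) * c⁻¹⁻¹ = v := by group
        exact e ▸ (h2 : c⁻¹ * (c * v * c⁻¹) * c⁻¹⁻¹ ∈ (P : Subgroup G))
    have hle' := syl3_le_cen h P' hP'
    set S : Sylow 3 X := P.subtype (syl3_le_cen h P hx) with hS
    set S' : Sylow 3 X := P'.subtype hle' with hS'
    haveI : (S : Subgroup X).Normal := by rw [hS, Sylow.coe_subtype]; exact hPXn
    haveI := Sylow.unique_of_normal S ‹_›
    exact Sylow.subtype_injective (show S' = S from Subsingleton.elim _ _)
  -- the normaliser of `P` has order 288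
  have hsingle : ∀ y : {g : G // orderOf g = 3},
      Nat.card {P : Sylow 3 G // (y : G) ∈ (P : Subgroup G)} = 1 := by
    intro y
    obtain ⟨x, hx, hx1⟩ : ∃ x ∈ (P : Subgroup G), x ≠ 1 := by
      obtain ⟨x, hx, hx1⟩ := (P : Subgroup G).bot_or_exists_ne_one.resolve_left (fun e => by
        have := syl3_card h P
        rw [e, Subgroup.card_bot] at this
        omega)
      exact ⟨x, hx, hx1⟩
    obtain ⟨c, hc⟩ := isConj_iff.1 ((three_class h).1 x y (syl3_order h P hx hx1) y.2)
    refine Nat.card_eq_one_iff_unique.2 ⟨⟨fun A B => ?_⟩, ⟨⟨c • P, ?_⟩⟩⟩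
    · have hA : ∀ A : {P : Sylow 3 G // (y : G) ∈ (P : Subgroup G)}, A.1 = c • P := by
        intro A
        have hxy : c⁻¹ * (y : G) * c = x := by rw [← hc]; group
        have : c⁻¹ • A.1 = P := (huniq x hx hx1).1 _ (by
          have h1 := Subgroup.smul_mem_pointwise_smul (y : G) (MulAut.conj c⁻¹) _ A.2
          simpa [Sylow.coe_subgroup_smul, hxy] using h1)
        rw [← this, smul_inv_smul]
      exact Subtype.ext ((hA A).trans (hA B).symm)
    · have h1 := Subgroup.smul_mem_pointwise_smul x (MulAut.conj c) _ hx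
      rw [← hc]
      simpa [Sylow.coe_subgroup_smul] using h1
  haveI := Fintype.ofFinite {g : G // orderOf g = 3}
  have hn3 := pairs h
  rw [Nat.card_sigma, Finset.sum_congr rfl (fun y _ => hsingle y), Finset.sum_const, smul_eq_mul,
    mul_one, Finset.card_univ, ← Nat.card_eq_fintype_card, ← cnt, count_three h] at hn3
  have hN := norm3_mul h P
  rw [show Nat.card (Sylow 3 G) = 1540 by omega] at hN
  have hN' : Nat.card (normalizer ((P : Subgroup G) : Set G)) = 288 := by omega
  -- the centraliser of `z` is large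
  have hd : Nat.card C ∣ 1152 := by
    haveI : Fact (Nat.Prime 5) := ⟨by norm_num⟩
    haveI : Fact (Nat.Prime 7) := ⟨by norm_num⟩
    haveI : Fact (Nat.Prime 11) := ⟨by norm_num⟩
    have h1 : Nat.card C ∣ 1152 * (5 * 7 * 11) := by
      have := C.card_subgroup_dvd_card
      rw [h.card] at this
      simpa using this
    refine Nat.Coprime.dvd_of_dvd_mul_right (Nat.Coprime.mul_right (Nat.Coprime.mul_right ?_ ?_) ?_) h1
    · exact ((Nat.Prime.coprime_iff_not_dvd (by norm_num)).2
        (not_prime_dvd_cen h (p := 5) hz (by norm_num) (by decide))).symm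
    · exact ((Nat.Prime.coprime_iff_not_dvd (by norm_num)).2
        (not_prime_dvd_cen h (p := 7) hz (by norm_num) (by decide))).symm
    · exact ((Nat.Prime.coprime_iff_not_dvd (by norm_num)).2
        (not_prime_dvd_cen h (p := 11) hz (by norm_num) (by decide))).symm
  have hbig : 384 ≤ Nat.card C := by
    have h1 : C.index ≤ 1155 := by
      rw [← CfsgLib.Base.Solutions.card_conjClass, ← count_two h, cnt]
      refine Nat.card_le_card_of_injective (fun w => ⟨w.1, ?_⟩)
        (fun a b e => Subtype.ext (congrArg Subtype.val e :))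
      have hw := ConjClasses.mem_carrier_iff_mk_eq.1 w.2
      obtain ⟨c, hc⟩ := isConj_iff.1 (ConjClasses.mk_eq_mk_iff_isConj.1 hw.symm)
      rw [← hc, conj_order, hz]
    have h2 := C.card_mul_index
    rw [h.card] at h2
    by_contra hlt
    have h3 : Nat.card C * C.index ≤ 383 * 1155 := Nat.mul_le_mul (by omega) h1
    omega
  -- `P` is a TI subgroup, so its conjugates in the centraliser come in orbits of nine
  have hfree : ∀ R : Sylow 3 C, R ≠ R₀ → ∀ a ∈ (R₀ : Subgroup C), a • R = R → a = 1 := by
    intro R hR a ha hfix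
    by_contra ha1
    have hN : a ∈ normalizer ((R : Subgroup C) : Set C) := Sylow.smul_eq_iff_mem_normalizer.1 hfix
    have hsup : IsPGroup 3 ((R : Subgroup C) ⊔ zpowers a : Subgroup C) :=
      IsPGroup.to_sup_of_normal_left' R.2 (R₀.2.to_le (zpowers_le.2 ha)) (zpowers_le.2 hN)
    have haR : a ∈ (R : Subgroup C) := by
      rw [← R.3 hsup le_sup_left]
      exact mem_sup_right (mem_zpowers a)
    obtain ⟨P', hP'⟩ := toG R
    have haP : (a : G) ∈ (P : Subgroup G) := hP ▸ Subgroup.mem_map_of_mem _ ha
    have hPP := (huniq (a : G) haP (fun e => ha1 (Subtype.ext e))).1 P'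
      (hP' ▸ Subgroup.mem_map_of_mem _ haR)
    apply hR
    refine Sylow.ext (Subgroup.map_injective C.subtype_injective ?_)
    rw [← hP, ← hP', hPP]
  letI : MulAction (R₀ : Subgroup C) {R : Sylow 3 C // R ≠ R₀} :=
    { smul := fun a R => ⟨(a : C) • R.1, fun e => R.2 (by
        rw [← inv_smul_smul (a : C) R.1, e]
        exact Sylow.smul_eq_iff_mem_normalizer.2 (le_normalizer (inv_mem a.2)))⟩
      one_smul := fun R => Subtype.ext (one_smul C R.1)
      mul_smul := fun a b R => Subtype.ext (mul_smul (a : C) (b : C) R.1) }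
  have hstab : ∀ R : {R : Sylow 3 C // R ≠ R₀}, MulAction.stabilizer (R₀ : Subgroup C) R = ⊥ := by
    intro R
    refine eq_bot_iff.2 fun a ha => ?_
    exact Subtype.ext (hfree R.1 R.2 a a.2 (congrArg Subtype.val (MulAction.mem_stabilizer_iff.1 ha)))
  have h9n : 9 ∣ Nat.card {R : Sylow 3 C // R ≠ R₀} := by
    rw [Nat.card_congr (MulAction.selfEquivOrbitsQuotientProd hstab), Nat.card_prod, hcardR]
    exact dvd_mul_left 9 _
  have hn : Nat.card (Sylow 3 C) = Nat.card {R : Sylow 3 C // R ≠ R₀} + 1 := by
    rw [← Finite.card_option]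
    exact Nat.card_congr (Equiv.optionSubtypeNe R₀).symm
  have hidx := (R₀ : Subgroup C).card_mul_index
  have hNR : (normalizer ((R₀ : Subgroup C) : Set C)).map C.subtype ≤
      normalizer ((P : Subgroup G) : Set G) := by
    rw [hP]
    exact Subgroup.le_normalizer_map _
  have hle288 : Nat.card (normalizer ((R₀ : Subgroup C) : Set C)) ≤ 288 := by
    rw [← hN', ← Subgroup.card_map_of_injective C.subtype_injective]
    exact Nat.le_of_dvd Nat.card_pos (Subgroup.card_dvd_of_le hNR)
  have h9N : 9 ≤ Nat.card (normalizer ((R₀ : Subgroup C) : Set C)) := by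
    rw [← hcardR R₀]
    exact Nat.le_of_dvd Nat.card_pos (Subgroup.card_dvd_of_le Subgroup.le_normalizer)
  have hmul : Nat.card (normalizer ((R₀ : Subgroup C) : Set C)) * Nat.card (Sylow 3 C) =
      Nat.card C := by
    rw [Sylow.card_eq_index_normalizer R₀]
    exact Subgroup.card_mul_index _
  have hdn : Nat.card (Sylow 3 C) ∣ 2 ^ 7 := by
    have h1 : Nat.card (Sylow 3 C) ∣ (R₀ : Subgroup C).index := R₀.card_dvd_index
    have h2 : (R₀ : Subgroup C).index * 9 ∣ 128 * 9 := by
      rw [mul_comm, ← hcardR R₀, hidx, hcardR R₀]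
      simpa using hd
    exact h1.trans ((Nat.mul_dvd_mul_iff_right (by norm_num : 0 < 9)).1 h2)
  have hC1152 : Nat.card C ≤ 1152 := Nat.le_of_dvd (by norm_num) hd
  obtain ⟨i, hi, hie⟩ := (Nat.dvd_prime_pow Nat.prime_two).1 hdn
  obtain ⟨k, hk⟩ := h9n
  -- the normaliser in the centraliser contains the centraliser of an element of order three
  have hN36 : 36 ≤ Nat.card (normalizer ((R₀ : Subgroup C) : Set C)) := by
    obtain ⟨x, hx, hx1⟩ := (P : Subgroup G).bot_or_exists_ne_one.resolve_left (fun e => by
      have := syl3_card h P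
      rw [e, Subgroup.card_bot] at this
      omega)
    have hX := (huniq x hx hx1).2
    have hle : (centralizer ({x} : Set G)).subgroupOf C ≤ normalizer ((R₀ : Subgroup C) : Set C) := by
      intro c hc
      have hcN := (hX (mem_subgroupOf.1 hc)).2
      refine mem_normalizer_iff.2 fun v => ?_
      have := mem_normalizer_iff.1 hcN (v : G)
      rw [hP] at this
      constructor
      · intro h1
        obtain ⟨w, hw, hw'⟩ := this.1 ⟨v, h1, rfl⟩
        rwa [show w = c * v * c⁻¹ from Subtype.ext hw'] at hw
      · intro h1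
        obtain ⟨w, hw, hw'⟩ := this.2 ⟨c * v * c⁻¹, h1, rfl⟩
        rwa [show w = v from Subtype.ext hw'] at hw
    rw [← cent_three h (syl3_order h P hx hx1),
      ← Nat.card_congr (Subgroup.subgroupOfEquivOfLe (hX.trans inf_le_left)).toEquiv]
    exact Nat.le_of_dvd Nat.card_pos (Subgroup.card_dvd_of_le hle)
  rw [hie] at hn hmul
  have hmul' := hmul
  interval_cases i <;> omega

/-- the centraliser of a Sylow three-subgroup -/
theorem cent_syl3_eq (h : Hyp G) (P : Sylow 3 G) :
    centralizer ((P : Subgroup G) : Set G) = (P : Subgroup G) := by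
  haveI : Fact (Nat.Prime 3) := ⟨Nat.prime_three⟩
  haveI : Fact (Nat.Prime 2) := ⟨Nat.prime_two⟩
  refine le_antisymm ?_ fun a ha => mem_centralizer_iff.2 fun b hb => syl3_comm h P hb ha
  set K := centralizer ((P : Subgroup G) : Set G) with hK
  obtain ⟨x, hx, hx1⟩ := (P : Subgroup G).bot_or_exists_ne_one.resolve_left (fun e => by
    have := syl3_card h P
    rw [e, Subgroup.card_bot] at this
    omega)
  have hPK : (P : Subgroup G) ≤ K := fun a ha => mem_centralizer_iff.2 fun b hb => syl3_comm h P hb ha
  have hKd : Nat.card K ∣ 36 := by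
    rw [← cent_three h (syl3_order h P hx hx1)]
    exact Subgroup.card_dvd_of_le (centralizer_le (Set.singleton_subset_iff.2 hx))
  have h9 : 9 ∣ Nat.card K := syl3_card h P ▸ Subgroup.card_dvd_of_le hPK
  have hodd : ¬ 2 ∣ Nat.card K := by
    intro h2
    obtain ⟨t, ht⟩ := exists_prime_orderOf_dvd_card' (G := K) 2 h2
    rw [← Subgroup.orderOf_coe] at ht
    refine not_nine h (t : G) ht ?_
    rw [← syl3_card h P]
    exact Subgroup.card_dvd_of_le fun a ha =>
      mem_centralizer_singleton_iff.2 (mem_centralizer_iff.1 t.2 a ha)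
  have hK9 : Nat.card K ∣ 9 :=
    Nat.Coprime.dvd_of_dvd_mul_right (k := Nat.card K) (n := 4) (m := 9)
      (Nat.Coprime.pow_right 2 ((Nat.Prime.coprime_iff_not_dvd Nat.prime_two).2 hodd).symm)
      (by simpa using hKd)
  exact le_of_eq (Subgroup.eq_of_le_of_card_ge hPK
    (by rw [syl3_card h P]; exact Nat.le_of_dvd (by norm_num) hK9)).symm

theorem norm3_card (h : Hyp G) (P : Sylow 3 G) :
    Nat.card (normalizer ((P : Subgroup G) : Set G)) = 72 := by
  haveI : Fact (Nat.Prime 3) := ⟨Nat.prime_three⟩
  haveI : Fact (Nat.Prime 2) := ⟨Nat.prime_two⟩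
  have hfour : ∀ y : {g : G // orderOf g = 3},
      Nat.card {P : Sylow 3 G // (y : G) ∈ (P : Subgroup G)} = 4 := by
    intro y
    rw [card_syl_containing h y.2]
    set C := centralizer ({(y : G)} : Set G) with hC
    have hC36 : Nat.card C = 36 := cent_three h y.2
    obtain ⟨R⟩ : Nonempty (Sylow 3 C) := inferInstance
    have h1 := card_sylow_modEq_one 3 C
    have h2 := R.card_dvd_index
    have hR : Nat.card (R : Subgroup C) = 9 := by
      rw [R.card_eq_multiplicity, hC36, show (36 : ℕ) = 3 ^ 2 * 4 by norm_num,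
        Nat.factorization_mul (by norm_num) (by norm_num), Finsupp.add_apply,
        Nat.prime_three.factorization_pow, Finsupp.single_eq_same,
        Nat.factorization_eq_zero_of_not_dvd (show ¬ 3 ∣ 4 by norm_num)]
      norm_num
    have h3 := (R : Subgroup C).card_mul_index
    rw [hR, hC36] at h3
    rw [show (R : Subgroup C).index = 4 by omega] at h2
    have h5 := Nat.le_of_dvd (by norm_num) h2
    -- a normal Sylow subgroup would centralise an involution
    have hne : Nat.card (Sylow 3 C) ≠ 1 := by
      intro hone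
      obtain ⟨hsub, -⟩ := Nat.card_eq_one_iff_unique.1 hone
      haveI := hsub
      haveI hRn : (R : Subgroup C).Normal := Sylow.normal_of_subsingleton R
      obtain ⟨V⟩ : Nonempty (Sylow 2 C) := inferInstance
      have hV : Nat.card (V : Subgroup C) = 4 := by
        rw [V.card_eq_multiplicity, hC36, show (36 : ℕ) = 2 ^ 2 * 9 by norm_num,
          Nat.factorization_mul (by norm_num) (by norm_num), Finsupp.add_apply,
          Nat.prime_two.factorization_pow, Finsupp.single_eq_same,
          Nat.factorization_eq_zero_of_not_dvd (show ¬ 2 ∣ 9 by norm_num)]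
        norm_num
      -- the four group is normal, as it holds all involutions
      have hsqV : ∀ b : C, b ∈ (V : Subgroup C) → b * b = 1 := by
        intro b hb
        obtain ⟨j, hj⟩ := V.2 ⟨b, hb⟩
        exact Subtype.ext (two_elt h y.2 (mem_centralizer_singleton_iff.1 b.2)
          (congrArg Subtype.val (congrArg Subtype.val hj :) :))
      have hcnt : centCnt (y : G) 2 = 3 := ((three_class h).2 _ y.2).2
      have hVall : ∀ b : C, b * b = 1 → b ∈ (V : Subgroup C) := by
        intro b hb
        by_contra hbV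
        have hsub : insert b ((V : Subgroup C) : Set C) ⊆ {b : C | b * b = 1} := by
          rintro c (rfl | hc)
          · exact hb
          · exact hsqV c hc
        have h4 : ({b : C | b * b = 1} : Set C).ncard ≤ 4 := by
          have h1 : {b : C | b * b = 1} ⊆
              insert 1 {b : C | Commute (y : G) (b : G) ∧ orderOf (b : G) = 2} := by
            intro b hb
            by_cases hb1 : b = 1
            · exact Or.inl hb1
            · exact Or.inr ⟨(show Commute (b : G) y from mem_centralizer_singleton_iff.1 b.2).symm,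
                orderOf_eq_prime (by rw [pow_two]; exact congrArg Subtype.val hb)
                  (fun e => hb1 (Subtype.ext e))⟩
          refine (Set.ncard_le_ncard h1 (Set.toFinite _)).trans ((Set.ncard_insert_le _ _).trans ?_)
          have hinj : Nat.card {b : C | Commute (y : G) (b : G) ∧ orderOf (b : G) = 2} ≤
              centCnt (y : G) 2 :=
            Nat.card_le_card_of_injective
              (fun b => (⟨(b.1 : G), b.2⟩ : {w : G // Commute (y : G) w ∧ orderOf w = 2}))
              fun b c e => Subtype.ext (Subtype.ext (congrArg Subtype.val e :))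
          rw [Nat.card_coe_set_eq] at hinj
          omega
        have h5 := (Set.ncard_le_ncard hsub (Set.toFinite _)).trans h4
        rw [Set.ncard_insert_of_notMem (by exact hbV) (Set.toFinite _), ← Nat.card_coe_set_eq,
          SetLike.coe_sort_coe, hV] at h5
        omega
      haveI hVn : (V : Subgroup C).Normal := ⟨fun b hb c => hVall _ (by
        calc c * b * c⁻¹ * (c * b * c⁻¹) = c * (b * b) * c⁻¹ := by group
          _ = 1 := by rw [hsqV b hb]; group)⟩
      obtain ⟨b, hb, hb1⟩ := (V : Subgroup C).bot_or_exists_ne_one.resolve_left (fun e => by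
        rw [e, Subgroup.card_bot] at hV
        omega)
      have hbo : orderOf (b : G) = 2 := orderOf_eq_prime
        (by rw [pow_two]; exact congrArg Subtype.val (hsqV b hb)) (fun e => hb1 (Subtype.ext e))
      refine not_nine h (b : G) hbo ?_
      have hdis : Disjoint (R : Subgroup C) (V : Subgroup C) := by
        rw [disjoint_iff]
        exact Subgroup.inf_eq_bot_of_coprime (by rw [hR, hV]; norm_num)
      rw [← hR, ← Subgroup.card_map_of_injective C.subtype_injective]
      refine Subgroup.card_dvd_of_le ?_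
      rintro _ ⟨r, hr, rfl⟩
      exact mem_centralizer_singleton_iff.2
        (congrArg Subtype.val
          (Subgroup.commute_of_normal_of_disjoint _ _ hRn hVn hdis r b hr hb).eq :)
    rw [Nat.ModEq] at h1
    obtain ⟨i, hi, hie⟩ := (Nat.dvd_prime_pow Nat.prime_two).1
      (show Nat.card (Sylow 3 C) ∣ 2 ^ 2 from h2)
    rw [hie] at hne h1 ⊢
    interval_cases i <;> first | rfl | exact absurd rfl hne | exact absurd h1 (by decide)
  haveI := Fintype.ofFinite {g : G // orderOf g = 3}
  have hn3 := pairs h
  rw [Nat.card_sigma, Finset.sum_congr rfl (fun y _ => hfour y), Finset.sum_const, smul_eq_mul,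
    Finset.card_univ, ← Nat.card_eq_fintype_card, ← cnt, count_three h] at hn3
  have hN := norm3_mul h P
  rw [show Nat.card (Sylow 3 G) = 6160 by omega] at hN
  omega

theorem cent_two (h : Hyp G) {z : G} (hz : orderOf z = 2) :
    Nat.card (centralizer ({z} : Set G)) = 384 ∧ ∀ u : G, orderOf u = 2 → IsConj z u := by
  haveI : Fact (Nat.Prime 3) := ⟨Nat.prime_three⟩
  haveI : Fact (Nat.Prime 5) := ⟨by norm_num⟩
  haveI : Fact (Nat.Prime 7) := ⟨by norm_num⟩
  haveI : Fact (Nat.Prime 11) := ⟨by norm_num⟩
  set C := centralizer ({z} : Set G) with hC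
  have hd : Nat.card C ∣ 384 := by
    have h1 : Nat.card C ∣ 384 * 3 * (5 * 7 * 11) := by
      have := C.card_subgroup_dvd_card
      rw [h.card] at this
      simpa using this
    have h2 : Nat.card C ∣ 384 * 3 := by
      refine Nat.Coprime.dvd_of_dvd_mul_right (Nat.Coprime.mul_right (Nat.Coprime.mul_right ?_ ?_) ?_) h1
      · exact ((Nat.Prime.coprime_iff_not_dvd (by norm_num)).2
          (not_prime_dvd_cen h (p := 5) hz (by norm_num) (by decide))).symm
      · exact ((Nat.Prime.coprime_iff_not_dvd (by norm_num)).2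
          (not_prime_dvd_cen h (p := 7) hz (by norm_num) (by decide))).symm
      · exact ((Nat.Prime.coprime_iff_not_dvd (by norm_num)).2
          (not_prime_dvd_cen h (p := 11) hz (by norm_num) (by decide))).symm
    have key : ∀ n ∈ (1152 : ℕ).divisors, ¬ 9 ∣ n → n ∣ 384 := by decide +kernel
    exact key _ (Nat.mem_divisors.2 ⟨h2, by norm_num⟩) (not_nine h z hz)
  have hidx := C.card_mul_index
  rw [h.card] at hidx
  haveI := Fintype.ofFinite G
  let f : (ConjClasses.mk z).carrier → {g : G // orderOf g = 2} := fun w => ⟨w.1, by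
    have hw := ConjClasses.mem_carrier_iff_mk_eq.1 w.2
    obtain ⟨c, hc⟩ := isConj_iff.1 (ConjClasses.mk_eq_mk_iff_isConj.1 hw.symm)
    rw [← hc, conj_order, hz]⟩
  have hf : Function.Injective f := fun a b e => Subtype.ext (congrArg Subtype.val e :)
  have hle := Nat.card_le_card_of_injective f hf
  rw [CfsgLib.Base.Solutions.card_conjClass, ← cnt, count_two h] at hle
  have hCle : Nat.card C ≤ 384 := Nat.le_of_dvd (by norm_num) hd
  have h384 : Nat.card C = 384 := by
    by_contra hne
    have h3 : Nat.card C * C.index ≤ 383 * 1155 := Nat.mul_le_mul (by omega) hle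
    omega
  refine ⟨h384, fun u hu => ?_⟩
  have hbij : Function.Surjective f := (hf.bijective_of_nat_card_le (le_of_eq (by
    rw [CfsgLib.Base.Solutions.card_conjClass, ← cnt, count_two h]
    rw [h384] at hidx
    show 1155 = C.index
    omega))).2
  obtain ⟨w, hw⟩ := hbij ⟨u, hu⟩
  have hwu : (w : G) = u := congrArg Subtype.val hw
  exact ConjClasses.mk_eq_mk_iff_isConj.1 ((ConjClasses.mem_carrier_iff_mk_eq.1 (hwu ▸ w.2)).symm)

end CfsgLib.M22Nse.CountsP1

namespace CfsgLib.M22Nse

universe u

open CountsP1 in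
/-- P1: from the counts to the facts. -/
theorem facts : StmtFacts.{u} := by
  intro G _ _ h
  exact
    { card := h.card
      simple := simple_group h
      nab := not_comm h
      orders := orders_mem h
      exists_eight := cnt_pos_iff.1 (main_counts h).2.1
      conj2 := fun u v hu hv => (cent_two h hu).2 v hv
      conj3 := (three_class h).1
      cent2 := fun u hu => (cent_two h hu).1
      cent3 := fun u hu => cent_three h hu
      invol3 := fun u hu => ((three_class h).2 u hu).2
      cent_syl3 := cent_syl3_eq h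
      norm3 := norm3_card h
      norm5 := norm5_card h }

end CfsgLib.M22Nse
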