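import Cfsg.Agent.Lib.M22Nse.Defs
import Cfsg.Agent.Lib.Techniques.OrderClasses
import Cfsg.Agent.Lib.Small.Order7920PrimeGraph
import Cfsg.Agent.Lib.Small.Order168

/-!
# S3594, piece P1: counting tools
-/

set_option autoImplicit false
set_option linter.unusedSectionVars false
set_option linter.style.haveILetI false

open scoped Classical

namespace CfsgLib.M22Nse.CountsP1

open Subgroup

universe u

variable {G : Type u} [Group G] [Finite G]

theorem conj_order (c x : G) : orderOf (c * x * c⁻¹) = orderOf x :=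
  (MulAut.conj c).orderOf_eq x

theorem cnt_eq (n : ℕ) : cnt G n = CfsgLib.Techniques.OrderClasses.cnt G n := rfl

theorem cnt_pos_iff {n : ℕ} : 0 < cnt G n ↔ ∃ g : G, orderOf g = n :=
  ⟨fun h => CfsgLib.Techniques.OrderClasses.cnt_ne_zero G (by rw [← cnt_eq]; omega),
    fun ⟨g, hg⟩ => by rw [cnt_eq]; exact CfsgLib.Techniques.OrderClasses.cnt_pos G hg⟩

theorem cnt_of_dvd {m n : ℕ} (hmn : m ∣ n) (hn : 0 < cnt G n) : 0 < cnt G m := by
  obtain ⟨g, rfl⟩ := cnt_pos_iff.1 hn
  obtain ⟨k, hk⟩ := hmn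
  have h0 : k ≠ 0 := by rintro rfl; exact (orderOf_pos g).ne' (by simpa using hk)
  exact cnt_pos_iff.2 ⟨g ^ k, by
    rw [orderOf_pow' _ h0, hk, Nat.gcd_mul_left_left, Nat.mul_div_cancel _ (by omega)]⟩

theorem cnt_eq_zero_of {n : ℕ} (h : ∀ g : G, orderOf g ≠ n) : cnt G n = 0 := by
  by_contra h0
  obtain ⟨g, hg⟩ := cnt_pos_iff.1 (Nat.pos_of_ne_zero h0)
  exact h g hg

/-- The centralizer part of the elements of a given order. -/
noncomputable def centCnt (x : G) (m : ℕ) : ℕ :=
  Nat.card {y : G // Commute x y ∧ orderOf y = m}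

theorem centCnt_eq (x : G) (m : ℕ) :
    centCnt x m = cnt (centralizer ({x} : Set G)) m :=
  Nat.card_congr
    { toFun := fun y => ⟨⟨y.1, mem_centralizer_singleton_iff.2 y.2.1.symm.eq⟩,
        by rw [orderOf_mk]; exact y.2.2⟩
      invFun := fun y => ⟨y.1.1, (show Commute y.1.1 x from
          mem_centralizer_singleton_iff.1 y.1.2).symm,
        by rw [orderOf_coe]; exact y.2⟩
      left_inv := fun _ => rfl
      right_inv := fun _ => rfl }

/-- Elements of order `a * b` with `a, b` coprime, sorted by their `a`-part. -/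
theorem cnt_prod [Fintype G] {a b : ℕ} (hab : a.Coprime b) :
    cnt G (a * b) = ∑ x ∈ Finset.univ.filter (fun x : G => orderOf x = a), centCnt x b := by
  obtain ⟨e, he1, he2⟩ := Nat.chineseRemainder hab 1 0
  obtain ⟨f, hf1, hf2⟩ := Nat.chineseRemainder hab 0 1
  have hbe : b ∣ e := Nat.modEq_zero_iff_dvd.1 he2
  have haf : a ∣ f := Nat.modEq_zero_iff_dvd.1 hf1
  have hef : e + f ≡ 1 [MOD a * b] :=
    (Nat.modEq_and_modEq_iff_modEq_mul hab).1 ⟨by simpa using he1.add hf1, by simpa using he2.add hf2⟩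
  have hfix : ∀ g : G, orderOf g = a * b → g ^ e * g ^ f = g := fun g hg => by
    rw [← pow_add]
    conv_rhs => rw [← pow_one g]
    exact pow_eq_pow_iff_modEq.2 (hg ▸ hef)
  have hparts : ∀ g : G, orderOf g = a * b → orderOf (g ^ e) = a ∧ orderOf (g ^ f) = b := by
    intro g hg
    have hab0 : 0 < a * b := hg ▸ orderOf_pos g
    have h1 : orderOf (g ^ e) ∣ a := orderOf_dvd_of_pow_eq_one (by
      rw [← pow_mul]
      refine orderOf_dvd_iff_pow_eq_one.1 (hg ▸ ?_)
      rw [mul_comm e a]; exact Nat.mul_dvd_mul_left a hbe)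
    have h2 : orderOf (g ^ f) ∣ b := orderOf_dvd_of_pow_eq_one (by
      rw [← pow_mul]
      refine orderOf_dvd_iff_pow_eq_one.1 (hg ▸ ?_)
      exact Nat.mul_dvd_mul_right haf b)
    have h3 : a * b ∣ orderOf (g ^ e) * orderOf (g ^ f) := by
      have := ((Commute.refl g).pow_pow e f).orderOf_mul_dvd_mul_orderOf
      rwa [hfix g hg, hg] at this
    exact ⟨Nat.dvd_antisymm h1 ((hab.coprime_dvd_right h2).dvd_of_dvd_mul_right
        ((Nat.dvd_mul_right a b).trans h3)),
      Nat.dvd_antisymm h2 ((hab.symm.coprime_dvd_right h1).dvd_of_dvd_mul_left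
        ((Nat.dvd_mul_left b a).trans h3))⟩
  rw [← Finset.sum_coe_sort]
  unfold centCnt
  rw [← Nat.card_sigma, cnt]
  refine Nat.card_congr
    { toFun := fun g => ⟨⟨g.1 ^ e, by simpa using (hparts g.1 g.2).1⟩,
        ⟨g.1 ^ f, (Commute.refl g.1).pow_pow e f, (hparts g.1 g.2).2⟩⟩
      invFun := fun s => ⟨s.1.1 * s.2.1, by
        have ha : orderOf s.1.1 = a := (Finset.mem_filter.1 s.1.2).2
        rw [s.2.2.1.orderOf_mul_eq_mul_orderOf_of_coprime (by rw [ha, s.2.2.2]; exact hab), ha,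
          s.2.2.2]⟩
      left_inv := fun g => Subtype.ext (hfix g.1 g.2)
      right_inv := ?_ }
  rintro ⟨⟨x, hx⟩, ⟨y, hc, hy⟩⟩
  have ha : orderOf x = a := (Finset.mem_filter.1 hx).2
  have hx1 : x ^ e = x := by
    conv_rhs => rw [← pow_one x]
    exact pow_eq_pow_iff_modEq.2 (ha ▸ he1)
  have hy0 : y ^ e = 1 := orderOf_dvd_iff_pow_eq_one.1 (hy ▸ hbe)
  have hy1 : y ^ f = y := by
    conv_rhs => rw [← pow_one y]
    exact pow_eq_pow_iff_modEq.2 (hy ▸ hf2)
  have hx0 : x ^ f = 1 := orderOf_dvd_iff_pow_eq_one.1 (ha ▸ haf)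
  have h1 : (x * y) ^ e = x := by rw [hc.mul_pow, hx1, hy0, mul_one]
  have h2 : (x * y) ^ f = y := by rw [hc.mul_pow, hx0, hy1, one_mul]
  exact Sigma.subtype_ext (Subtype.ext h1) h2

/-- With Sylow subgroups of prime order, elements of that order have the same centralizer counts. -/
theorem centCnt_const {p : ℕ} [Fact p.Prime]
    (hP : ∀ P : Sylow p G, Nat.card (P : Subgroup G) = p) {x x' : G}
    (hx : orderOf x = p) (hx' : orderOf x' = p) (m : ℕ) : centCnt x m = centCnt x' m := by
  have hcard : ∀ z : G, orderOf z = p → Nat.card (zpowers z) = p ^ (Nat.card G).factorization p :=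
    fun z hz => by
      obtain ⟨P⟩ := (inferInstance : Nonempty (Sylow p G))
      rw [Nat.card_zpowers, hz, ← Sylow.card_eq_multiplicity P, hP P]
  let P : Sylow p G := Sylow.ofCard (zpowers x) (hcard x hx)
  let Q : Sylow p G := Sylow.ofCard (zpowers x') (hcard x' hx')
  obtain ⟨c, hc⟩ := MulAction.exists_smul_eq G P Q
  have hmem : c * x * c⁻¹ ∈ zpowers x' := by
    have h1 : c * x * c⁻¹ ∈ ((c • P : Sylow p G) : Subgroup G) :=
      Subgroup.smul_mem_pointwise_smul x (MulAut.conj c) (P : Subgroup G)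
        (by rw [Sylow.coe_ofCard]; exact mem_zpowers x)
    rw [hc, Sylow.coe_ofCard] at h1
    exact h1
  have hgen : zpowers (c * x * c⁻¹) = zpowers x' :=
    Subgroup.eq_of_le_of_card_ge (zpowers_le.2 hmem)
      (le_of_eq (by rw [Nat.card_zpowers, Nat.card_zpowers, conj_order, hx, hx']))
  have key : ∀ y, Commute x y ↔ Commute x' (c * y * c⁻¹) := fun y => by
    have h1 : Commute x y ↔ Commute (c * x * c⁻¹) (c * y * c⁻¹) := (Commute.conj_iff c).symm
    rw [h1]
    constructor
    · intro h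
      obtain ⟨k, hk⟩ := mem_zpowers_iff.1 (hgen.symm ▸ mem_zpowers x' : x' ∈ zpowers (c * x * c⁻¹))
      rw [← hk]; exact h.zpow_left k
    · intro h
      obtain ⟨k, hk⟩ := mem_zpowers_iff.1 hmem
      rw [← hk]; exact h.zpow_left k
  exact Nat.card_congr ((MulAut.conj c).toEquiv.subtypeEquiv fun y => by
    simp only [MulEquiv.toEquiv_eq_coe, EquivLike.coe_coe, MulAut.conj_apply]
    rw [conj_order, key y])

/-- The count for `p * m`, when the Sylow `p`-subgroups have order `p`. -/
theorem cnt_prime_prod {p : ℕ} [Fact p.Prime]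
    (hP : ∀ P : Sylow p G, Nat.card (P : Subgroup G) = p) {x : G} (hx : orderOf x = p) {m : ℕ}
    (hpm : p.Coprime m) : cnt G (p * m) = cnt G p * cnt (centralizer ({x} : Set G)) m := by
  haveI := Fintype.ofFinite G
  rw [cnt_prod hpm, Finset.sum_congr rfl
    (fun y hy => centCnt_const hP (Finset.mem_filter.1 hy).2 hx m), Finset.sum_const, smul_eq_mul,
    centCnt_eq]
  simp [cnt, Nat.card_eq_fintype_card, Fintype.card_subtype]

theorem dvd_centCard {x g : G} (h : Commute g x) :
    orderOf g ∣ Nat.card (centralizer ({x} : Set G)) :=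
  Subgroup.orderOf_dvd_natCard _ (mem_centralizer_singleton_iff.2 h.eq)

/-- Two primes: the Sylow normalizer and its quotient by the centralizer. -/
theorem local_card {p : ℕ} [Fact p.Prime]
    (hP : ∀ P : Sylow p G, Nat.card (P : Subgroup G) = p) {x : G} (hx : orderOf x = p) :
    ∃ e, e ∣ p - 1 ∧
      Nat.card (centralizer ({x} : Set G)) * e * Nat.card (Sylow p G) = Nat.card G := by
  have hcard : Nat.card (zpowers x) = p ^ (Nat.card G).factorization p := by
    obtain ⟨P⟩ := (inferInstance : Nonempty (Sylow p G))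
    rw [Nat.card_zpowers, hx, ← Sylow.card_eq_multiplicity P, hP P]
  let P : Sylow p G := Sylow.ofCard (zpowers x) hcard
  obtain ⟨e, he, hmul⟩ := CfsgLib.Small.O7920.exists_index_centralizer (P : Subgroup G) (hP P)
  refine ⟨e, he, ?_⟩
  have hcent : centralizer ((P : Subgroup G) : Set G) = centralizer ({x} : Set G) := by
    rw [Sylow.coe_ofCard, zpowers_eq_closure, centralizer_closure]
  rw [hcent] at hmul
  rw [hmul, Sylow.card_eq_index_normalizer P]
  exact Subgroup.card_mul_index _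

theorem mem_of_coprime_index {N : Subgroup G} [N.Normal] {g : G}
    (h : (orderOf g).Coprime N.index) : g ∈ N := by
  rw [← QuotientGroup.eq_one_iff, ← orderOf_eq_one_iff]
  refine Nat.dvd_one.1 ?_
  rw [← h.gcd_eq_one]
  exact Nat.dvd_gcd (orderOf_map_dvd (QuotientGroup.mk' N) g)
    (by rw [Subgroup.index_eq_card]; exact orderOf_dvd_natCard _)

theorem card_sylow_eq' (p m : ℕ) [Fact p.Prime] (h : Nat.card G = p * m) (hm : ¬ p ∣ m)
    (P : Sylow p G) : Nat.card (P : Subgroup G) = p ^ 1 := by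
  rw [Sylow.card_eq_multiplicity P, h, Nat.factorization_mul (Fact.out : p.Prime).ne_zero
    (by rintro rfl; exact hm (dvd_zero p))]
  simp [(Fact.out : p.Prime).factorization_self, Nat.factorization_eq_zero_of_not_dvd hm]

end CfsgLib.M22Nse.CountsP1
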