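import Mathlib

/-!
# The numbers of elements of each order in a group like the Mathieu group of degree 22

Interfaces between the pieces of the proof that a group with the order and these numbers of `M22`
is `M22`.  The paper proof is `tools/S3594_plan.md`.
-/

set_option autoImplicit false

namespace CfsgLib.M22Nse

open Subgroup

universe u

variable (G : Type u) [Group G]

/-- the number of elements of a given order -/
noncomputable def cnt (n : ℕ) : ℕ := Nat.card {g : G // orderOf g = n}

/-- the values of these numbers in the Mathieu group of degree 22 -/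
def vals : List ℕ := [1, 1155, 12320, 36960, 41580, 55440, 80640, 88704, 126720]

/-- What the hypothesis on the numbers of elements gives at once. -/
structure Hyp : Prop where
  card : Nat.card G = 443520
  mem : ∀ n, cnt G n = 0 ∨ cnt G n ∈ vals

/-- The element orders and the local structure at two, three and five. -/
structure Facts : Prop where
  card : Nat.card G = 443520
  simple : IsSimpleGroup G
  nab : ¬ ∀ a b : G, a * b = b * a
  orders : ∀ g : G, orderOf g ∈ [1, 2, 3, 4, 5, 6, 7, 8, 11]
  exists_eight : ∃ g : G, orderOf g = 8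
  conj2 : ∀ u v : G, orderOf u = 2 → orderOf v = 2 → IsConj u v
  conj3 : ∀ u v : G, orderOf u = 3 → orderOf v = 3 → IsConj u v
  cent2 : ∀ u : G, orderOf u = 2 → Nat.card (centralizer ({u} : Set G)) = 384
  cent3 : ∀ u : G, orderOf u = 3 → Nat.card (centralizer ({u} : Set G)) = 36
  invol3 : ∀ u : G, orderOf u = 3 → Nat.card {v : G // Commute u v ∧ orderOf v = 2} = 3
  cent_syl3 : ∀ P : Sylow 3 G, centralizer ((P : Subgroup G) : Set G) = (P : Subgroup G)
  norm3 : ∀ P : Sylow 3 G, Nat.card (normalizer ((P : Subgroup G) : Set G)) = 72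
  norm5 : ∀ P : Sylow 5 G, Nat.card (normalizer ((P : Subgroup G) : Set G)) = 20

/-- An elementary abelian subgroup of order 16, its own centraliser, with normaliser of index 77
that controls the centraliser of each of its involutions. -/
structure Sixteen where
  A : Subgroup G
  card_A : Nat.card A = 16
  elem : ∀ a ∈ A, a * a = 1
  self_cent : centralizer (A : Set G) = A
  card_N : Nat.card (normalizer (A : Set G)) = 5760
  cent_le : ∀ a ∈ A, a ≠ 1 → centralizer ({a} : Set G) ≤ normalizer (A : Set G)
  trans : ∀ a ∈ A, a ≠ 1 → ∀ b ∈ A, b ≠ 1 → ∃ g ∈ normalizer (A : Set G), g * a * g⁻¹ = b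
  syl3 : ∃ P : Sylow 3 G, (P : Subgroup G) ≤ normalizer (A : Set G) ∧
    ∃ s ∈ normalizer (A : Set G),
      s ∈ normalizer ((P : Subgroup G) : Set G) ∧ s ∉ (P : Subgroup G)
  no_abelian : ∀ a ∈ A, a ≠ 1 → ∀ W : Subgroup G, W ≤ centralizer ({a} : Set G) →
    (∀ v ∈ W, ∀ w ∈ W, v * w = w * v) → Nat.card W = 8 → ¬ Disjoint W A

/-- the existence of the subgroup of order 16 -/
def StmtSixteen : Prop := ∀ (G : Type u) [Group G] [Finite G], Facts G → Nonempty (Sixteen G)

/-- from the counts to the facts -/
def StmtFacts : Prop := ∀ (G : Type u) [Group G] [Finite G], Hyp G → Facts G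

/-- each involution lies in exactly one conjugate, and the action on the conjugates gives a
strongly regular graph -/
def StmtGraph : Prop := ∀ (G : Type u) [Group G] [Finite G], Facts G → Sixteen G →
  ∃ (V : Type u) (_ : Fintype V) (_ : DecidableEq V) (Γ : SimpleGraph V) (_ : DecidableRel Γ.Adj)
    (φ : G →* (Γ ≃g Γ)), Γ.IsSRGWith 77 16 0 4 ∧ Function.Injective φ

/-- the finish: two such groups in the automorphism group of the one graph -/
def StmtIso : Prop := ∀ (G : Type u) [Group G] [Finite G] (K : Type) [Group K] [Finite K],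
  Facts G → Facts K →
  ∀ (V : Type u) [Fintype V] [DecidableEq V] (Γ : SimpleGraph V) [DecidableRel Γ.Adj]
    (W : Type) [Fintype W] [DecidableEq W] (Δ : SimpleGraph W) [DecidableRel Δ.Adj]
    (φ : G →* (Γ ≃g Γ)) (ψ : K →* (Δ ≃g Δ)),
    Γ.IsSRGWith 77 16 0 4 → Δ.IsSRGWith 77 16 0 4 →
    Function.Injective φ → Function.Injective ψ → Nonempty (G ≃* K)

end CfsgLib.M22Nse
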