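import Cfsg.Agent.Lib.Base.Transport

/-!
Tools for the action on the cosets of a normaliser: orbit lengths and fixed points of `p`-groups.
-/

set_option autoImplicit false
set_option linter.style.haveILetI false

namespace CfsgLib.M22Nse.Graph

open Subgroup

universe u

variable {G : Type u} [Group G] {Ω : Type u} [MulAction G Ω]

/-- The length of the orbit of a subgroup. -/
noncomputable def len (K : Subgroup G) (x : Ω) : ℕ := Nat.card (MulAction.orbit K x)

theorem mem_orbit_sub {K : Subgroup G} {x y : Ω} :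
    y ∈ MulAction.orbit K x ↔ ∃ k ∈ K, k • x = y :=
  ⟨fun ⟨k, hk⟩ => ⟨k, k.2, hk⟩, fun ⟨k, hk, e⟩ => ⟨⟨k, hk⟩, e⟩⟩

theorem len_mul (K : Subgroup G) (x : Ω) :
    len K x * Nat.card (K ⊓ MulAction.stabilizer G x : Subgroup G) = Nat.card K := by
  have e : MulAction.stabilizer K x = (MulAction.stabilizer G x).subgroupOf K := by
    ext k; rfl
  have e2 : Nat.card (K ⊓ MulAction.stabilizer G x : Subgroup G) =
      Nat.card (MulAction.stabilizer K x) := by
    rw [e, ← inf_subgroupOf_left (MulAction.stabilizer G x) K]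
    exact (Nat.card_congr (subgroupOfEquivOfLe inf_le_left).toEquiv).symm
  rw [e2, len, Nat.card_coe_set_eq, ← MulAction.index_stabilizer, index_mul_card]

/-- A `p`-group on an invariant set: the cardinality is congruent to that of its fixed points. -/
theorem card_modEq_fixed [Finite Ω] {p : ℕ} [Fact p.Prime] {P : Subgroup G} (hP : IsPGroup p P)
    (S : Set Ω) (hS : ∀ g ∈ P, ∀ x ∈ S, g • x ∈ S) :
    Nat.card S ≡ Nat.card {x : Ω // x ∈ S ∧ ∀ g ∈ P, g • x = x} [MOD p] := by
  let T : SubMulAction P Ω := ⟨S, fun c {x} hx => hS c c.2 x hx⟩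
  refine Nat.ModEq.trans (hP.card_modEq_card_fixedPoints T) ?_
  rw [Nat.card_congr (show MulAction.fixedPoints P T ≃ {x : Ω // x ∈ S ∧ ∀ g ∈ P, g • x = x} from
    { toFun := fun x => ⟨x.1.1, x.1.2, fun g hg => congrArg Subtype.val (x.2 ⟨g, hg⟩)⟩
      invFun := fun x => ⟨⟨x.1, x.2.1⟩, fun g => Subtype.ext (x.2.2 g g.2)⟩
      left_inv := fun x => rfl
      right_inv := fun x => rfl })]

/-- An orbit of length prime to `p` contains a fixed point. -/
theorem exists_fixed [Finite Ω] {p : ℕ} [Fact p.Prime] {P K : Subgroup G} (hP : IsPGroup p P)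
    (hle : P ≤ K) {x : Ω} (hp : ¬ p ∣ len K x) :
    ∃ y ∈ MulAction.orbit K x, ∀ g ∈ P, g • y = y := by
  by_contra hne
  simp only [not_exists, not_and, not_forall] at hne
  have hinv : ∀ g ∈ P, ∀ y ∈ MulAction.orbit K x, g • y ∈ MulAction.orbit K x := by
    intro g hg y hy
    obtain ⟨k, hk, rfl⟩ := mem_orbit_sub.1 hy
    exact mem_orbit_sub.2 ⟨g * k, mul_mem (hle hg) hk, mul_smul g k x⟩
  have h0 : Nat.card {y : Ω // y ∈ MulAction.orbit K x ∧ ∀ g ∈ P, g • y = y} = 0 := by
    haveI : IsEmpty {y : Ω // y ∈ MulAction.orbit K x ∧ ∀ g ∈ P, g • y = y} :=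
      ⟨fun y => by obtain ⟨g, hg, hgy⟩ := hne y.1 y.2.1; exact hgy (y.2.2 g hg)⟩
    exact Nat.card_of_isEmpty
  have h := card_modEq_fixed hP (MulAction.orbit K x) hinv
  rw [h0] at h
  exact hp (Nat.modEq_zero_iff_dvd.1 h)

/-- A normal subgroup has orbits of length dividing the orbit lengths. -/
theorem len_dvd [Finite G] {A K : Subgroup G} (hA : A ≤ K) (hn : K ≤ normalizer (A : Set G)) (x : Ω) :
    len A x ∣ len K x := by
  set S := K ⊓ MulAction.stabilizer G x with hS
  haveI : (A.subgroupOf K).Normal := normal_subgroupOf_of_le_normalizer hn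
  have hSK : S ≤ K := inf_le_left
  have h1 := len_mul A x
  have h2 := len_mul K x
  rw [← hS] at h2
  -- `S` meets `A` in the stabiliser and `A S` is a subgroup of `K`
  have hint : A ⊓ MulAction.stabilizer G x = A ⊓ S := by
    rw [hS, ← inf_assoc, inf_eq_left.2 hA]
  rw [hint] at h1
  have h3 : Nat.card (A ⊔ S : Subgroup G) * Nat.card (A ⊓ S : Subgroup G) =
      Nat.card A * Nat.card S := by
    have := Base.card_sup_mul_card_inf (S.subgroupOf K) (A.subgroupOf K)
    rw [← subgroupOf_sup hSK hA, show S.subgroupOf K ⊓ A.subgroupOf K = (S ⊓ A).subgroupOf K from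
      (comap_inf S A K.subtype).symm, Base.card_subgroupOf (sup_le hSK hA),
      Base.card_subgroupOf (inf_le_right.trans hA), Base.card_subgroupOf hSK,
      Base.card_subgroupOf hA, sup_comm, inf_comm, mul_comm (Nat.card S)] at this
    exact this
  have h4 : Nat.card (A ⊔ S : Subgroup G) ∣ Nat.card K := card_dvd_of_le (sup_le hA hSK)
  have h5 := Nat.mul_dvd_mul_right h4 (Nat.card (A ⊓ S : Subgroup G))
  rw [h3, ← h1, ← h2] at h5
  have h6 : len A x * (Nat.card (A ⊓ S : Subgroup G) * Nat.card S) ∣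
      len K x * (Nat.card (A ⊓ S : Subgroup G) * Nat.card S) := by
    convert h5 using 1 <;> ring
  exact Nat.dvd_of_mul_dvd_mul_right (Nat.mul_pos Nat.card_pos Nat.card_pos) h6

end CfsgLib.M22Nse.Graph
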