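import Cfsg.Agent.Lib.M22Nse.Defs
import Cfsg.Agent.Lib.M22Nse.GraphTools

/-!
The action on the 77 conjugates of the subgroup of order 16 gives a strongly regular graph.
-/

set_option autoImplicit false
set_option linter.style.haveILetI false

namespace CfsgLib.M22Nse

open Subgroup

universe u

namespace Graph

set_option linter.unusedSectionVars false

variable {G : Type u} [Group G] [Finite G] (F : Facts G) (S : Sixteen G)

local notation "NA" => normalizer (SetLike.coe (Sixteen.A S))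
local notation "Ω" => G ⧸ normalizer (SetLike.coe (Sixteen.A S))
local notation "pt" => ((1 : G) : G ⧸ normalizer (SetLike.coe (Sixteen.A S)))

theorem smul_pt (g : G) : g • pt = (g : Ω) := by
  show ((g * 1 : G) : Ω) = _
  rw [mul_one]

theorem exists_smul (x : Ω) : ∃ g : G, g • pt = x := by
  induction x using QuotientGroup.induction_on with
  | H g => exact ⟨g, smul_pt S g⟩

theorem stab_pt : MulAction.stabilizer G pt = NA := MulAction.stabilizer_quotient _

theorem smul_eq_pt {g : G} : g • pt = pt ↔ g ∈ NA := by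
  exact (MulAction.mem_stabilizer_iff (G := G) (g := g) (a := pt)).symm.trans
    (SetLike.ext_iff.1 (stab_pt S) g)

theorem mem_stab {g n : G} : n ∈ MulAction.stabilizer G (g • pt) ↔ g⁻¹ * n * g ∈ NA := by
  rw [← smul_eq_pt S, MulAction.mem_stabilizer_iff, mul_smul, mul_smul, inv_smul_eq_iff]

include F in
theorem card_omega : Nat.card Ω = 77 := by
  have := card_eq_card_quotient_mul_card_subgroup (normalizer (S.A : Set G))
  rw [F.card, S.card_N] at this
  omega

/-- Different conjugates meet trivially. -/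
theorem ti {g a : G} (hg : g ∉ NA) (ha : a ∈ S.A) (ha' : g⁻¹ * a * g ∈ S.A) : a = 1 := by
  by_contra h1
  have h1' : g⁻¹ * a * g ≠ 1 := fun e => h1 (by
    calc a = g * (g⁻¹ * a * g) * g⁻¹ := by group
      _ = 1 := by rw [e]; group)
  obtain ⟨n, hn, e⟩ := S.trans a ha h1 _ ha' h1'
  refine hg ?_
  have hc : g * n ∈ centralizer ({a} : Set G) := by
    refine mem_centralizer_singleton_iff.2 ?_
    calc g * n * a = g * (n * a * n⁻¹) * n := by group
      _ = a * (g * n) := by rw [e]; group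
  have := mul_mem (S.cent_le a ha h1 hc) (inv_mem hn)
  rwa [mul_inv_cancel_right] at this

theorem len_A_dvd (x : Ω) : len S.A x ∣ 16 := Dvd.intro _ ((len_mul S.A x).trans S.card_A)

theorem elem_commute {a b : G} (ha : a ∈ S.A) (hb : b ∈ S.A) : a * b = b * a := by
  have e := S.elem (a * b) (mul_mem ha hb)
  calc a * b = a * (a * b * (a * b)) * b := by rw [e]; group
    _ = (a * a) * (b * a) * (b * b) := by group
    _ = b * a := by rw [S.elem a ha, S.elem b hb]; group

theorem A_le : S.A ≤ NA := le_normalizer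

theorem pt_fixed {K : Subgroup G} (hK : K ≤ NA) {x : Ω} (h : pt ∈ MulAction.orbit K x) :
    x = pt := by
  obtain ⟨k, hk, e⟩ := mem_orbit_sub.1 h
  rw [← inv_smul_eq_iff.2 e.symm]
  exact (smul_eq_pt S).2 (inv_mem (hK hk))

include F in
theorem len_A_ne_one {x : Ω} (hx : x ≠ pt) : len S.A x ≠ 1 := by
  intro h1
  obtain ⟨g, rfl⟩ := exists_smul S x
  have hg : g ∉ NA := fun h => hx ((smul_eq_pt S).2 h)
  have hm := len_mul S.A (g • pt)
  rw [h1, one_mul] at hm
  have hle : S.A ≤ MulAction.stabilizer G (g • pt) :=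
    (inf_eq_left.1 (eq_of_le_of_card_ge inf_le_left hm.ge))
  set B := S.A.map (MulAut.conj g).toMonoidHom with hB
  have hnorm : S.A ≤ normalizer (B : Set G) := by
    intro a ha
    have hn := (mem_stab S).1 (hle ha)
    refine mem_normalizer_iff.2 fun b => ?_
    constructor
    · rintro ⟨c, hc, rfl⟩
      refine ⟨(g⁻¹ * a * g) * c * (g⁻¹ * a * g)⁻¹, (mem_normalizer_iff.1 hn c).1 hc, ?_⟩
      simp [mul_assoc]
    · rintro ⟨c, hc, e⟩
      refine ⟨(g⁻¹ * a * g)⁻¹ * c * (g⁻¹ * a * g), ?_, ?_⟩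
      · have := (mem_normalizer_iff.1 (inv_mem hn) c).1 hc
        rwa [inv_inv] at this
      · simp only [MulEquiv.coe_toMonoidHom, MulAut.conj_apply] at e ⊢
        calc g * ((g⁻¹ * a * g)⁻¹ * c * (g⁻¹ * a * g)) * g⁻¹
            = a⁻¹ * (g * c * g⁻¹) * a := by group
          _ = b := by rw [e]; group
  set K := S.A ⊔ B with hK
  have hAK : S.A ≤ K := le_sup_left
  have hBK : B ≤ K := le_sup_right
  haveI : (B.subgroupOf K).Normal :=
    normal_subgroupOf_of_le_normalizer (sup_le hnorm le_normalizer)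
  have hc := Base.card_sup_mul_card_inf (S.A.subgroupOf K) (B.subgroupOf K)
  have hint : S.A ⊓ B = ⊥ := by
    rw [eq_bot_iff]
    rintro a ⟨ha, c, hc, e⟩
    refine mem_bot.2 (ti S hg ha ?_)
    simp only [MulEquiv.coe_toMonoidHom, MulAut.conj_apply] at e
    rw [← e, show g⁻¹ * (g * c * g⁻¹) * g = c by group]
    exact hc
  rw [← subgroupOf_sup hAK hBK, show S.A.subgroupOf K ⊓ B.subgroupOf K = (S.A ⊓ B).subgroupOf K from
      (comap_inf S.A B K.subtype).symm, hint, Base.card_subgroupOf le_rfl, bot_subgroupOf, card_bot,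
    mul_one, Base.card_subgroupOf hAK, Base.card_subgroupOf hBK, hB,
    card_map_of_injective (MulAut.conj g).injective, S.card_A] at hc
  have hd : Nat.card K ∣ 443520 := F.card ▸ card_subgroup_dvd_card K
  rw [hc] at hd
  norm_num at hd

theorem p5_exists : ∃ P : Subgroup G, P ≤ NA ∧ Nat.card P = 5 := by
  haveI : Fact (Nat.Prime 5) := ⟨by norm_num⟩
  obtain ⟨K, hK⟩ := Sylow.exists_subgroup_card_pow_prime 5
    (G := normalizer (S.A : Set G)) (n := 1) (by rw [S.card_N]; norm_num)
  exact ⟨K.map (normalizer (S.A : Set G)).subtype, map_subtype_le _,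
    by rw [card_map_of_injective (subtype_injective _), hK]; norm_num⟩

/-- The fixed points of a Sylow subgroup of the stabiliser are an orbit of its normaliser. -/
theorem fixed_eq {p : ℕ} [Fact p.Prime] (P : Sylow p G) (hP : (P : Subgroup G) ≤ NA) (x : Ω) :
    (∀ g ∈ (P : Subgroup G), g • x = x) ↔
      x ∈ MulAction.orbit (normalizer ((P : Subgroup G) : Set G)) pt := by
  constructor
  · intro hx
    obtain ⟨g, rfl⟩ := exists_smul S x
    have hP' : ((g⁻¹ • P : Sylow p G) : Subgroup G) ≤ NA := by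
      rintro _ ⟨v, hv, rfl⟩
      have := (mem_stab S).1 (MulAction.mem_stabilizer_iff.2 (hx v hv))
      simpa [MulAut.smul_def, mul_assoc] using this
    obtain ⟨n, hn⟩ := MulAction.exists_smul_eq (normalizer (S.A : Set G))
      (P.subtype hP) ((g⁻¹ • P).subtype hP')
    rw [Sylow.smul_subtype] at hn
    have e : ((n : G) • P) = g⁻¹ • P := Sylow.subtype_injective hn
    refine mem_orbit_sub.2 ⟨g * n, ?_, ?_⟩
    · exact Sylow.smul_eq_iff_mem_normalizer.1 (by rw [mul_smul, e, smul_inv_smul])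
    · rw [mul_smul, (smul_eq_pt S).2 n.2]
  · intro hx g hg
    obtain ⟨k, hk, rfl⟩ := mem_orbit_sub.1 hx
    refine MulAction.mem_stabilizer_iff.1 ((mem_stab S).2 (hP ?_))
    have := (mem_normalizer_iff.1 (inv_mem hk) g).1 hg
    rwa [inv_inv] at this

include F in
theorem two_fixed {p : ℕ} [Fact p.Prime] (P : Sylow p G) (hP : (P : Subgroup G) ≤ NA)
    (hlen : ∀ l, l * Nat.card (normalizer ((P : Subgroup G) : Set G) ⊓ NA : Subgroup G) =
      Nat.card (normalizer ((P : Subgroup G) : Set G)) → l % p = 77 % p → l = 2) :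
    ∃ B : Ω, B ≠ pt ∧ (∀ g ∈ (P : Subgroup G), g • B = B) ∧
      ∀ x : Ω, (∀ g ∈ (P : Subgroup G), g • x = x) → x = pt ∨ x = B := by
  have hm := len_mul (normalizer ((P : Subgroup G) : Set G)) pt
  rw [stab_pt S] at hm
  have hcard : Nat.card {x : Ω // x ∈ (Set.univ : Set Ω) ∧ ∀ g ∈ (P : Subgroup G), g • x = x} =
      len (normalizer ((P : Subgroup G) : Set G)) pt :=
    Nat.card_congr (Equiv.subtypeEquivRight fun x =>
      ⟨fun h => (fixed_eq S P hP x).1 h.2, fun h => ⟨trivial, (fixed_eq S P hP x).2 h⟩⟩)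
  have hmod := card_modEq_fixed P.isPGroup' (Set.univ : Set Ω) (fun _ _ _ _ => trivial)
  rw [hcard, Nat.card_congr (Equiv.Set.univ Ω), card_omega F S] at hmod
  have h2 := hlen _ hm hmod.symm
  rw [h2] at hcard
  have hpt : ∀ g ∈ (P : Subgroup G), g • pt = pt := fun g hg => (smul_eq_pt S).2 (hP hg)
  obtain ⟨⟨B, _, hB⟩, hne, huniq⟩ :=
    (Nat.card_eq_two_iff' (⟨pt, trivial, hpt⟩ : {x : Ω // x ∈ (Set.univ : Set Ω) ∧
      ∀ g ∈ (P : Subgroup G), g • x = x})).1 hcard
  refine ⟨B, fun e => hne (Subtype.ext e), hB, fun x hx => or_iff_not_imp_left.2 fun h => ?_⟩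
  exact congrArg Subtype.val (huniq ⟨x, trivial, hx⟩ fun e => h (congrArg Subtype.val e))

theorem orbit_subset {x : Ω} (hx : x ≠ pt) : MulAction.orbit (normalizer (S.A : Set G)) x ⊆ {pt}ᶜ :=
  fun _ hy e => hx (pt_fixed S le_rfl (Set.mem_singleton_iff.1 e ▸ hy))

/-- A paired orbit has the same length. -/
theorem len_inv (g : G) : len NA (g⁻¹ • pt) = len NA (g • pt) := by
  have h1 := len_mul NA (g⁻¹ • pt)
  have h2 := len_mul NA (g • pt)
  have e : (NA ⊓ MulAction.stabilizer G (g⁻¹ • pt)).map (MulAut.conj g).toMonoidHom =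
      NA ⊓ MulAction.stabilizer G (g • pt) := by
    ext n
    constructor
    · rintro ⟨m, ⟨hm, hm'⟩, rfl⟩
      have hm'' := (mem_stab S).1 hm'
      rw [inv_inv] at hm''
      exact ⟨hm'', (mem_stab S).2 (by simpa [mul_assoc] using hm)⟩
    · rintro ⟨hn, hn'⟩
      refine ⟨g⁻¹ * n * g, ⟨(mem_stab S).1 hn', (mem_stab S).2 ?_⟩, by simp [mul_assoc]⟩
      simpa [mul_assoc] using hn
  rw [← e, card_map_of_injective (MulAut.conj g).injective, ← h1] at h2
  exact (Nat.eq_of_mul_eq_mul_right Nat.card_pos h2).symm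

include F in
theorem len_ne_thirty {x : Ω} (hx : x ≠ pt) : len NA x ≠ 30 := by
  intro h30
  obtain ⟨g, rfl⟩ := exists_smul S x
  have hg : g ∉ NA := fun h => hx ((smul_eq_pt S).2 h)
  have hx' : g⁻¹ • pt ≠ pt := fun e => hg (inv_mem_iff.1 ((smul_eq_pt S).1 e))
  have two : ∀ y : Ω, y ≠ pt → len NA y = 30 →
      Nat.card (S.A ⊓ MulAction.stabilizer G y : Subgroup G) = 8 := by
    intro y hy h
    have h1 := len_A_dvd S y
    have h2 := len_dvd (A_le S) le_rfl y
    rw [h] at h2
    have h3 : len S.A y ∣ 2 := by simpa using Nat.dvd_gcd h1 h2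
    have h4 := (Nat.dvd_prime Nat.prime_two).1 h3
    have := len_mul S.A y
    rw [h4.resolve_left (len_A_ne_one F S hy), S.card_A] at this
    omega
  set U := S.A ⊓ MulAction.stabilizer G (g • pt) with hU
  have hU8 : Nat.card U = 8 := two _ hx h30
  set W := (S.A ⊓ MulAction.stabilizer G (g⁻¹ • pt)).map (MulAut.conj g).toMonoidHom with hW
  have hW8 : Nat.card W = 8 := by
    rw [hW, card_map_of_injective (MulAut.conj g).injective]
    exact two _ hx' ((len_inv S g).trans h30)
  obtain ⟨u, hu, hu1⟩ : ∃ u ∈ U, u ≠ 1 := by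
    haveI : Nontrivial U := Finite.one_lt_card_iff_nontrivial.1 (by omega)
    obtain ⟨v, hv⟩ := exists_ne (1 : U)
    exact ⟨v, v.2, fun e => hv (Subtype.ext e)⟩
  have hWB : ∀ w ∈ W, g⁻¹ * w * g ∈ S.A ∧ w ∈ NA := by
    rintro _ ⟨m, ⟨hm, hm'⟩, rfl⟩
    have hm'' := (mem_stab S).1 hm'
    rw [inv_inv] at hm''
    exact ⟨by simpa [mul_assoc] using hm, hm''⟩
  refine S.no_abelian u hu.1 hu1 W (fun w hw => ?_) (fun v hv w hw => ?_) hW8 ?_
  · refine mem_centralizer_singleton_iff.2 ?_
    obtain ⟨hw1, hw2⟩ := hWB w hw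
    have hu' : g⁻¹ * u * g ∈ NA := (mem_stab S).1 hu.2
    have hA : u * w * u⁻¹ * w⁻¹ ∈ S.A := by
      rw [show u * w * u⁻¹ * w⁻¹ = u * (w * u⁻¹ * w⁻¹) by group]
      exact mul_mem hu.1 ((mem_normalizer_iff.1 hw2 _).1 (inv_mem hu.1))
    have hB : g⁻¹ * (u * w * u⁻¹ * w⁻¹) * g ∈ S.A := by
      rw [show g⁻¹ * (u * w * u⁻¹ * w⁻¹) * g =
        (g⁻¹ * u * g) * (g⁻¹ * w * g) * (g⁻¹ * u * g)⁻¹ * (g⁻¹ * w * g)⁻¹ by group]
      exact mul_mem ((mem_normalizer_iff.1 hu' _).1 hw1) (inv_mem hw1)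
    have e := ti S hg hA hB
    calc w * u = (u * w * u⁻¹ * w⁻¹)⁻¹ * (u * w) := by group
      _ = u * w := by rw [e]; group
  · have e := elem_commute S (hWB v hv).1 (hWB w hw).1
    calc v * w = g * ((g⁻¹ * v * g) * (g⁻¹ * w * g)) * g⁻¹ := by group
      _ = w * v := by rw [e]; group
  · exact disjoint_def.2 fun {w} hw hwA => ti S hg hwA (hWB w hw).1

include F in
/-- The suborbits: one of length 16 and one of length 60. -/
theorem suborbits : ∃ B : Ω, B ≠ pt ∧ len NA B = 16 ∧
    ∀ x : Ω, x ≠ pt → x ∉ MulAction.orbit (normalizer (S.A : Set G)) B → len NA x = 60 ∧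
      ∀ y : Ω, y ≠ pt → y ∉ MulAction.orbit (normalizer (S.A : Set G)) B →
        y ∈ MulAction.orbit (normalizer (S.A : Set G)) x := by
  haveI : Fact (Nat.Prime 5) := ⟨by norm_num⟩
  haveI : Fact (Nat.Prime 3) := ⟨Nat.prime_three⟩
  obtain ⟨K, hKN, hK⟩ := p5_exists S
  obtain ⟨P, hPK⟩ := (IsPGroup.of_card (show Nat.card K = 5 ^ 1 by rw [hK]; norm_num)).exists_le_sylow
  have hPK' : K = (P : Subgroup G) := by
    refine eq_of_le_of_card_ge hPK ?_
    obtain ⟨m, hm⟩ := P.isPGroup'.exists_card_eq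
    rw [hm, hK]
    have hd : 5 ^ m ∣ 443520 := by rw [← hm, ← F.card]; exact card_subgroup_dvd_card _
    rcases Nat.lt_or_ge m 2 with h | h
    · calc 5 ^ m ≤ 5 ^ 1 := Nat.pow_le_pow_right (by norm_num) (by omega)
        _ = 5 := by norm_num
    · have : 5 ^ 2 ∣ 443520 := (pow_dvd_pow 5 h).trans hd
      norm_num at this
  have hPN : (P : Subgroup G) ≤ NA := hPK' ▸ hKN
  obtain ⟨B, hB, hBfix, hBu⟩ := two_fixed F S P hPN (fun l hl hmod => by
    rw [F.norm5 P] at hl
    have hl' : l ∣ 20 := Dvd.intro _ hl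
    have : l ≤ 20 := Nat.le_of_dvd (by norm_num) hl'
    interval_cases l <;> omega)
  -- orbits containing the fixed point are congruent to one modulo five
  have one_fix : ∀ K : Subgroup G, K ≤ NA → (P : Subgroup G) ≤ normalizer (K : Set G) →
      len K B % 5 = 1 := by
    intro K hK hPn
    have hinv : ∀ g ∈ (P : Subgroup G), ∀ x ∈ MulAction.orbit K B, g • x ∈ MulAction.orbit K B := by
      intro g hg x hx
      obtain ⟨k, hk, rfl⟩ := mem_orbit_sub.1 hx
      refine mem_orbit_sub.2 ⟨g * k * g⁻¹, (mem_normalizer_iff.1 (hPn hg) k).1 hk, ?_⟩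
      rw [mul_smul, mul_smul, inv_smul_eq_iff.2 (hBfix g hg).symm]
    have h1 : Nat.card {x : Ω // x ∈ MulAction.orbit K B ∧
        ∀ g ∈ (P : Subgroup G), g • x = x} = 1 := by
      rw [Nat.card_eq_one_iff_unique]
      refine ⟨⟨fun x y => Subtype.ext ?_⟩, ⟨⟨B, MulAction.mem_orbit_self B, hBfix⟩⟩⟩
      have key : ∀ w : {x : Ω // x ∈ MulAction.orbit K B ∧
          ∀ g ∈ (P : Subgroup G), g • x = x}, (w : Ω) = B := fun w =>
        (hBu w.1 w.2.2).resolve_left fun e => hB (pt_fixed S hK (e ▸ w.2.1))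
      rw [key x, key y]
    have h := card_modEq_fixed P.isPGroup' (MulAction.orbit K B) hinv
    rw [h1] at h
    exact h
  have hd : len S.A B = 16 := by
    have h1 := one_fix S.A (A_le S) hPN
    have h2 := len_A_dvd S B
    have h3 := len_A_ne_one F S hB
    obtain ⟨m, hm, e⟩ := (Nat.dvd_prime_pow Nat.prime_two).1 (show _ ∣ 2 ^ 4 from h2)
    rw [e] at h1 h3 ⊢
    interval_cases m <;> omega
  have hl : len NA B = 16 := by
    have h1 := one_fix NA le_rfl (hPN.trans le_normalizer)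
    have h2 : 16 ∣ len NA B := hd ▸ len_dvd (A_le S) le_rfl B
    have h3 : len NA B ≤ 76 := by
      have : len NA B ≤ Nat.card ({pt}ᶜ : Set Ω) :=
        Nat.card_mono (Set.toFinite _) (orbit_subset S hB)
      rw [Nat.card_coe_set_eq, Set.ncard_compl, Set.ncard_singleton, card_omega F S] at this
      exact this
    omega
  refine ⟨B, hB, hl, ?_⟩
  obtain ⟨P₃, hP₃, s, hs, hs', hs''⟩ := S.syl3
  obtain ⟨C, hC, -, hCu⟩ := two_fixed F S P₃ hP₃ (fun l hl hmod => by
    rw [F.norm3 P₃] at hl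
    have h9 : Nat.card (P₃ : Subgroup G) = 9 := by
      have hd : Nat.card (P₃ : Subgroup G) ∣ 72 :=
        F.norm3 P₃ ▸ card_dvd_of_le le_normalizer
      obtain ⟨m, hm⟩ := P₃.isPGroup'.exists_card_eq
      have hm2 : 3 ^ 2 ∣ Nat.card (P₃ : Subgroup G) :=
        P₃.pow_dvd_card_of_pow_dvd_card (by rw [F.card]; norm_num)
      have hlt : m ≤ 2 := by
        by_contra hge
        have : 3 ^ 3 ∣ 72 := (pow_dvd_pow 3 (by omega)).trans (hm ▸ hd)
        norm_num at this
      rw [hm] at hm2 ⊢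
      have : 2 ≤ m := (Nat.pow_dvd_pow_iff_le_right (by norm_num)).1 hm2
      rw [show m = 2 by omega]; norm_num
    set M := normalizer ((P₃ : Subgroup G) : Set G) ⊓ NA with hM
    have hle : (P₃ : Subgroup G) ≤ M := le_inf le_normalizer hP₃
    have h18 : 9 < Nat.card M := by
      by_contra hge
      have e : (P₃ : Subgroup G) = M := eq_of_le_of_card_ge hle (by rw [h9]; omega)
      exact hs'' (e ▸ ⟨hs', hs⟩)
    obtain ⟨j, hj⟩ := h9 ▸ card_dvd_of_le hle
    rw [hj] at hl h18
    have hlj : l * j = 8 := by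
      have : 9 * (l * j) = 72 := by rw [← hl]; ring
      omega
    have : l ≤ 8 := Nat.le_of_dvd (by norm_num) (Dvd.intro _ hlj)
    interval_cases l <;> omega)
  have hCO : C ∈ MulAction.orbit (normalizer (S.A : Set G)) B := by
    obtain ⟨y, hy, hyf⟩ := exists_fixed (K := NA) (x := B) P₃.isPGroup' hP₃
      (by rw [hl]; norm_num)
    rcases hCu y hyf with e | e
    · exact absurd (pt_fixed S le_rfl (e ▸ hy)) hB
    · exact e ▸ hy
  set Δ := MulAction.orbit (normalizer (S.A : Set G)) B with hΔ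
  have key : ∀ x : Ω, x ≠ pt → x ∉ Δ → len NA x = 60 := by
    intro x hx hxΔ
    have hdis : ∀ y, y ∈ MulAction.orbit (normalizer (S.A : Set G)) x → y ∉ Δ := fun y hy hyΔ =>
      hxΔ (by
        rw [hΔ, ← MulAction.orbit_eq_iff.2 hyΔ, MulAction.orbit_eq_iff.2 hy]
        exact MulAction.mem_orbit_self x)
    have h5 : 5 ∣ len NA x := by
      by_contra h
      obtain ⟨y, hy, hyf⟩ := exists_fixed P.isPGroup' hPN h
      rcases hBu y hyf with e | e
      · exact hx (pt_fixed S le_rfl (e ▸ hy))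
      · exact hdis y hy (e ▸ MulAction.mem_orbit_self B)
    have h3 : 3 ∣ len NA x := by
      by_contra h
      obtain ⟨y, hy, hyf⟩ := exists_fixed P₃.isPGroup' hP₃ h
      rcases hCu y hyf with e | e
      · exact hx (pt_fixed S le_rfl (e ▸ hy))
      · exact hdis y hy (e ▸ hCO)
    have h2 : 2 ∣ len NA x := by
      obtain ⟨m, -, e⟩ := (Nat.dvd_prime_pow Nat.prime_two).1 (show _ ∣ 2 ^ 4 from len_A_dvd S x)
      have hm : m ≠ 0 := fun h0 => len_A_ne_one F S hx (by rw [e, h0]; rfl)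
      exact (e ▸ dvd_pow_self 2 hm).trans (len_dvd (A_le S) le_rfl x)
    have hle : len NA x ≤ 60 := by
      have hsub : MulAction.orbit (normalizer (S.A : Set G)) x ⊆ (insert pt Δ)ᶜ := by
        intro y hy hy'
        rcases Set.mem_insert_iff.1 hy' with e | e
        · exact hx (pt_fixed S le_rfl (e ▸ hy))
        · exact hdis y hy e
      have hle' : len NA x ≤ Nat.card ((insert pt Δ)ᶜ : Set Ω) := Nat.card_mono (Set.toFinite _) hsub
      have hptΔ : pt ∉ Δ := fun h => hB (pt_fixed S le_rfl h)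
      rw [Nat.card_coe_set_eq, Set.ncard_compl, Set.ncard_insert_of_notMem hptΔ,
        show Δ.ncard = 16 by rw [← Nat.card_coe_set_eq]; exact hl, card_omega F S] at hle'
      omega
    have hpos : 0 < len NA x :=
      Nat.card_pos_iff.2 ⟨⟨⟨x, MulAction.mem_orbit_self x⟩⟩, inferInstanceAs (Finite (MulAction.orbit _ x))⟩
    have h30 := len_ne_thirty F S hx
    omega
  intro x hx hxΔ
  refine ⟨key x hx hxΔ, fun y hy hyΔ => ?_⟩
  have hsub : MulAction.orbit (normalizer (S.A : Set G)) x ⊆ (insert pt Δ)ᶜ := by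
    intro w hw hw'
    rcases Set.mem_insert_iff.1 hw' with e | e
    · exact hx (pt_fixed S le_rfl (e ▸ hw))
    · exact hxΔ (by
        rw [hΔ, ← MulAction.orbit_eq_iff.2 e, MulAction.orbit_eq_iff.2 hw]
        exact MulAction.mem_orbit_self x)
  have heq : MulAction.orbit (normalizer (S.A : Set G)) x = (insert pt Δ)ᶜ := by
    refine Set.eq_of_subset_of_ncard_le hsub ?_ (Set.toFinite _)
    have hptΔ : pt ∉ Δ := fun h => hB (pt_fixed S le_rfl h)
    rw [Set.ncard_compl, Set.ncard_insert_of_notMem hptΔ,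
      show Δ.ncard = 16 by rw [← Nat.card_coe_set_eq]; exact hl, card_omega F S,
      show (MulAction.orbit (normalizer (S.A : Set G)) x).ncard = 60 by
        rw [← Nat.card_coe_set_eq]; exact key x hx hxΔ]
  rw [heq]
  exact fun h => (Set.mem_insert_iff.1 h).elim hy hyΔ

end Graph

/-- The graph on the 77 conjugates of the subgroup of order 16. -/
theorem graph : StmtGraph.{u} := by
  intro G _ _ F S
  classical
  let Ω := G ⧸ normalizer (S.A : Set G)
  let o : Ω := ((1 : G) : Ω)
  letI : Fintype Ω := Fintype.ofFinite Ω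
  obtain ⟨B, hB, hlB, hrest⟩ := Graph.suborbits F S
  let Δ := MulAction.orbit (normalizer (S.A : Set G)) B
  have hΔ : Δ.ncard = 16 := by rw [← Nat.card_coe_set_eq]; exact hlB
  have hoΔ : o ∉ Δ := fun h => hB (Graph.pt_fixed S le_rfl h)
  have hn77 : Nat.card Ω = 77 := Graph.card_omega F S
  -- the relation
  let R : Ω → Ω → Prop := fun x y => ∃ g : G, g • o = x ∧ g • B = y
  have hsymm : ∀ x y, R x y → R y x := by
    rintro x y ⟨g, rfl, rfl⟩
    obtain ⟨g₀, hg₀⟩ := Graph.exists_smul S B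
    have hg₀N : g₀⁻¹ • o ≠ o := fun e => hB (by rw [← hg₀]; exact (inv_smul_eq_iff.1 e).symm)
    have hl : Graph.len (normalizer (S.A : Set G)) (g₀⁻¹ • o) = 16 :=
      (Graph.len_inv S g₀).trans (by rw [hg₀]; exact hlB)
    have hmem : g₀⁻¹ • o ∈ Δ := by
      by_contra h
      have := (hrest _ hg₀N h).1
      omega
    obtain ⟨n, hn, hnB⟩ := Graph.mem_orbit_sub.1 hmem
    refine ⟨g * g₀ * n, ?_, ?_⟩
    · rw [mul_smul, (Graph.smul_eq_pt S).2 hn, mul_smul, hg₀]
    · rw [mul_smul, hnB, mul_smul, smul_inv_smul]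
  have hirr : ∀ x, ¬ R x x := by
    rintro x ⟨g, h1, h2⟩
    exact hB (smul_left_cancel g (h2.trans h1.symm))
  let Γ : SimpleGraph Ω :=
    { Adj := R, symm := ⟨fun x y h => hsymm x y h⟩, loopless := ⟨fun x h => hirr x h⟩ }
  have hsm : ∀ (g : G) x y, Γ.Adj (g • x) (g • y) ↔ Γ.Adj x y := by
    intro g x y
    constructor
    · rintro ⟨k, hk1, hk2⟩
      exact ⟨g⁻¹ * k, by rw [mul_smul, hk1, inv_smul_smul], by rw [mul_smul, hk2, inv_smul_smul]⟩
    · rintro ⟨k, rfl, rfl⟩
      exact ⟨g * k, mul_smul _ _ _, mul_smul _ _ _⟩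
  have hnbr : ∀ y, Γ.Adj o y ↔ y ∈ Δ := by
    intro y
    constructor
    · rintro ⟨g, hg, rfl⟩
      exact Graph.mem_orbit_sub.2 ⟨g, (Graph.smul_eq_pt S).1 hg, rfl⟩
    · intro hy
      obtain ⟨g, hg, rfl⟩ := Graph.mem_orbit_sub.1 hy
      exact ⟨g, (Graph.smul_eq_pt S).2 hg, rfl⟩
  let iso : G → (Γ ≃g Γ) := fun g => ⟨MulAction.toPerm g, fun {x y} => hsm g x y⟩
  let φ : G →* (Γ ≃g Γ) :=
    { toFun := iso
      map_one' := RelIso.ext fun x => one_smul G x
      map_mul' := fun g h => RelIso.ext fun x => mul_smul g h x }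
  have hφ : Function.Injective φ := by
    rw [injective_iff_map_eq_one]
    intro g hg
    have hker : φ.ker = ⊥ := by
      haveI := F.simple
      rcases (inferInstance : φ.ker.Normal).eq_bot_or_eq_top with h | h
      · exact h
      · exfalso
        obtain ⟨g₀, hg₀⟩ := Graph.exists_smul S B
        have e : φ g₀ = 1 := MonoidHom.mem_ker.1 (h ▸ mem_top g₀)
        exact hB (hg₀.symm.trans (DFunLike.congr_fun e o))
    exact mem_bot.1 (hker ▸ MonoidHom.mem_ker.2 hg)
  -- common neighbours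
  let cn : Ω → Ω → ℕ := fun x y => Nat.card {w : Ω // Γ.Adj x w ∧ Γ.Adj y w}
  have hcn : ∀ (g : G) x y, cn (g • x) (g • y) = cn x y := by
    intro g x y
    refine Nat.card_congr
      { toFun := fun w => ⟨g⁻¹ • w.1, ?_, ?_⟩
        invFun := fun w => ⟨g • w.1, (hsm g _ _).2 w.2.1, (hsm g _ _).2 w.2.2⟩
        left_inv := fun w => Subtype.ext (smul_inv_smul g w.1)
        right_inv := fun w => Subtype.ext (inv_smul_smul g w.1) }
    · rw [← hsm g, smul_inv_smul]; exact w.2.1
    · rw [← hsm g, smul_inv_smul]; exact w.2.2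
  obtain ⟨C₀, hC₀, hC₀'⟩ : ∃ C₀ : Ω, C₀ ≠ o ∧ C₀ ∉ Δ := by
    by_contra h
    have hu : (insert o Δ : Set Ω) = Set.univ := Set.eq_univ_of_forall fun x =>
      Set.mem_insert_iff.2 (Classical.byContradiction fun h' =>
        h ⟨x, fun e => h' (Or.inl e), fun e => h' (Or.inr e)⟩)
    have := congrArg Set.ncard hu
    rw [Set.ncard_insert_of_notMem hoΔ, hΔ, Set.ncard_univ, hn77] at this
    omega
  have hadj : ∀ x y, Γ.Adj x y → cn x y = cn o B := by
    rintro x y ⟨g, rfl, rfl⟩
    exact hcn g o B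
  have hnadj : ∀ x y, x ≠ y → ¬ Γ.Adj x y → cn x y = cn o C₀ := by
    intro x y hne hna
    obtain ⟨g, rfl⟩ := Graph.exists_smul S x
    have h1 : g⁻¹ • y ≠ o := fun e => hne (inv_smul_eq_iff.1 e).symm
    have h2 : g⁻¹ • y ∉ Δ := fun e => hna (by
      rw [← hsm g⁻¹, inv_smul_smul]; exact (hnbr _).2 e)
    obtain ⟨n, hn, e⟩ := Graph.mem_orbit_sub.1 ((hrest C₀ hC₀ hC₀').2 _ h1 h2)
    calc cn (g • o) y = cn ((g * n) • o) ((g * n) • C₀) := by
          rw [mul_smul, mul_smul, (Graph.smul_eq_pt S).2 hn, e, smul_inv_smul]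
      _ = cn o C₀ := hcn _ _ _
  have hdeg : ∀ x, Nat.card {y : Ω // Γ.Adj x y} = 16 := by
    intro x
    obtain ⟨g, rfl⟩ := Graph.exists_smul S x
    rw [← hΔ, ← Nat.card_coe_set_eq]
    exact Nat.card_congr
      { toFun := fun y => ⟨g⁻¹ • y.1, (hnbr _).1 (by rw [← hsm g, smul_inv_smul]; exact y.2)⟩
        invFun := fun y => ⟨g • y.1, (hsm g _ _).2 ((hnbr _).2 y.2)⟩
        left_inv := fun y => Subtype.ext (smul_inv_smul g y.1)
        right_inv := fun y => Subtype.ext (inv_smul_smul g y.1) }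
  have hsrg : Γ.IsSRGWith 77 16 (cn o B) (cn o C₀) :=
    { card := by rw [← Nat.card_eq_fintype_card, hn77]
      regular := fun x => by
        rw [← SimpleGraph.card_neighborSet_eq_degree, ← Nat.card_eq_fintype_card]
        exact hdeg x
      of_adj := fun x y h => by rw [← Nat.card_eq_fintype_card]; exact hadj x y h
      of_not_adj := fun x y hne h => by rw [← Nat.card_eq_fintype_card]; exact hnadj x y hne h }
  have hμ : cn o C₀ ≠ 0 := by
    intro hμ0
    -- otherwise the blocks of size 17 would partition 77 points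
    let st : Setoid Ω :=
      { r := fun x y => x = y ∨ Γ.Adj x y
        iseqv :=
          { refl := fun x => Or.inl rfl
            symm := fun {x y} h => h.elim (fun e => Or.inl e.symm) (fun e => Or.inr (hsymm x y e))
            trans := fun {x y w} h1 h2 => by
              rcases h1 with rfl | h1
              · exact h2
              rcases h2 with rfl | h2
              · exact Or.inr h1
              by_contra hne
              rw [not_or] at hne
              have h0 : cn x w = 0 := (hnadj x w hne.1 hne.2).trans hμ0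
              exact ((Nat.card_eq_zero.1 h0).resolve_right fun h => h.not_finite Subtype.finite).false
                ⟨y, h1, hsymm _ _ h2⟩ } }
    have hfib : ∀ q : Quotient st, Nat.card {x : Ω // Quotient.mk st x = q} = 17 := by
      intro q
      induction q using Quotient.inductionOn with
      | h x =>
        have e : {y : Ω | Quotient.mk st y = Quotient.mk st x} = insert x {y | Γ.Adj x y} := by
          ext y
          rw [Set.mem_ofPred_eq, Quotient.eq, Set.mem_insert_iff]
          exact ⟨fun h => h.elim Or.inl fun h => Or.inr (hsymm _ _ h),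
            fun h => h.elim Or.inl fun h => Or.inr (hsymm _ _ h)⟩
        show Nat.card ({y : Ω | Quotient.mk st y = Quotient.mk st x} : Set Ω) = 17
        rw [e, Nat.card_coe_set_eq, Set.ncard_insert_of_notMem (show x ∉ {y | Γ.Adj x y} from hirr x),
          ← Nat.card_coe_set_eq]
        exact congrArg (· + 1) (hdeg x)
    have h77 : Nat.card Ω = Nat.card (Quotient st) * 17 := by
      rw [← Nat.card_congr (Equiv.sigmaFiberEquiv (Quotient.mk st)), Nat.card_sigma,
        Finset.sum_congr rfl fun q _ => hfib q, Finset.sum_const, Finset.card_univ,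
        smul_eq_mul, Nat.card_eq_fintype_card]
    omega
  have hp := SimpleGraph.IsSRGWith.param_eq Γ hsrg (by norm_num)
  have hvals : cn o B = 0 ∧ cn o C₀ = 4 := by omega
  rw [hvals.1, hvals.2] at hsrg
  exact ⟨Ω, inferInstance, inferInstance, Γ, inferInstance, φ, hsrg, hφ⟩

end CfsgLib.M22Nse
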