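import Cfsg.Agent.Lib.M22Nse.Defs
import Cfsg.Agent.Lib.Spor.M22GraphUnique
import Cfsg.Agent.Lib.KnownA.SteinerUnique.AutLarge

/-!
# Two simple groups of order 443520 on graphs with parameters (77, 16, 0, 4)

The cocliques of 21 vertices are the points of a Steiner system S(3, 6, 22) whose blocks are the
vertices, so the automorphism group of the graph has order at most 887040, and there is room for
one simple subgroup of order 443520 only.
-/

set_option autoImplicit false
set_option linter.style.haveILetI false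

namespace CfsgLib.M22Nse

open Cfsg Finset CfsgLib.M22Unique
open scoped Pointwise

universe u

section Graph

variable {W : Type*} [Fintype W] [DecidableEq W] {Δ : SimpleGraph W} [DecidableRel Δ.Adj]

/-- the block of a vertex: the cocliques through it -/
def ptsOf (Δ : SimpleGraph W) [DecidableRel Δ.Adj] (v : W) : Finset ↥(cocliques Δ) :=
  Finset.univ.filter fun C => v ∈ C.1

theorem mem_ptsOf {v : W} {C : ↥(cocliques Δ)} : C ∈ ptsOf Δ v ↔ v ∈ C.1 := by simp [ptsOf]

theorem card_filter_pts (P : Finset W → Prop) [DecidablePred P] :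
    (Finset.univ.filter fun C : ↥(cocliques Δ) => P C.1).card
      = ((cocliques Δ).filter P).card := by
  rw [← Finset.card_map (Function.Embedding.subtype fun C => C ∈ cocliques Δ)]
  congr 1
  ext C
  simp [and_comm]

theorem ptsOf_card (h : Δ.IsSRGWith 77 16 0 4) (v : W) : (ptsOf Δ v).card = 6 := by
  rw [ptsOf, card_filter_pts fun C => v ∈ C]
  exact cocliques_through h v

theorem ptsOf_meet (h : Δ.IsSRGWith 77 16 0 4) {v w : W} (hne : v ≠ w) :
    (ptsOf Δ v ∩ ptsOf Δ w).card ≤ 2 := by
  have e : ptsOf Δ v ∩ ptsOf Δ w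
      = Finset.univ.filter fun C : ↥(cocliques Δ) => v ∈ C.1 ∧ w ∈ C.1 := by
    ext C; simp [ptsOf]
  rw [e, card_filter_pts fun C => v ∈ C ∧ w ∈ C]
  by_cases ha : Δ.Adj v w
  · rw [Finset.card_eq_zero.2 (Finset.filter_eq_empty_iff.2
      fun C hC h' => (mem_cocliques.1 hC).2 v h'.1 w h'.2 ha)]
    omega
  · exact (two_cocliques h (mem_away.2 ⟨hne, ha⟩)).le

theorem ptsOf_injective (h : Δ.IsSRGWith 77 16 0 4) : Function.Injective (ptsOf Δ) := by
  intro v w e
  by_contra hne
  have := ptsOf_meet h hne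
  rw [e, Finset.inter_self, ptsOf_card h] at this
  omega

/-- the blocks of the vertices form a Steiner system -/
theorem steiner_ptsOf (h : Δ.IsSRGWith 77 16 0 4) :
    IsSteinerSystem 3 6 (Set.range (ptsOf Δ)) := by
  classical
  have huniq : ∀ v w : W, ∀ s : Finset ↥(cocliques Δ), s.card = 3 → s ⊆ ptsOf Δ v →
      s ⊆ ptsOf Δ w → v = w := by
    intro v w s hs h1 h2
    by_contra hne
    have := Finset.card_le_card (Finset.subset_inter h1 h2)
    have := ptsOf_meet h hne
    omega
  have hcov : (Finset.univ : Finset W).biUnion (fun v => (ptsOf Δ v).powersetCard 3)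
      = Finset.univ.powersetCard 3 := by
    refine Finset.eq_of_subset_of_card_le (fun s hs => ?_) ?_
    · obtain ⟨v, -, hv⟩ := Finset.mem_biUnion.1 hs
      exact Finset.mem_powersetCard.2 ⟨Finset.subset_univ _, (Finset.mem_powersetCard.1 hv).2⟩
    · rw [Finset.card_biUnion]
      · simp only [Finset.card_powersetCard, Finset.card_univ, ptsOf_card h, Finset.sum_const,
          h.card, Fintype.card_coe, cocliques_card h]
        decide
      · intro v _ w _ hne
        refine Finset.disjoint_left.2 fun s hs hs' => hne ?_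
        rw [Finset.mem_powersetCard] at hs hs'
        exact huniq v w s hs.2 hs.1 hs'.1
  refine ⟨?_, fun s hs => ?_⟩
  · rintro _ ⟨v, rfl⟩
    exact ptsOf_card h v
  · have : s ∈ (Finset.univ : Finset W).biUnion (fun v => (ptsOf Δ v).powersetCard 3) := by
      rw [hcov]
      exact Finset.mem_powersetCard.2 ⟨Finset.subset_univ _, hs⟩
    obtain ⟨v, -, hv⟩ := Finset.mem_biUnion.1 this
    refine ⟨ptsOf Δ v, ⟨⟨v, rfl⟩, (Finset.mem_powersetCard.1 hv).1⟩, ?_⟩
    rintro _ ⟨⟨w, rfl⟩, hw⟩
    rw [huniq w v s hs hw (Finset.mem_powersetCard.1 hv).1]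

theorem image_mem_cocliques (σ : Δ ≃g Δ) {C : Finset W} (hC : C ∈ cocliques Δ) :
    C.image σ ∈ cocliques Δ := by
  obtain ⟨h21, hi⟩ := mem_cocliques.1 hC
  refine mem_cocliques.2 ⟨(Finset.card_image_of_injective _ σ.injective).trans h21, ?_⟩
  intro x hx y hy hadj
  obtain ⟨a, ha, rfl⟩ := Finset.mem_image.1 hx
  obtain ⟨b, hb, rfl⟩ := Finset.mem_image.1 hy
  exact hi a ha b hb (σ.map_rel_iff.1 hadj)

/-- an automorphism of the graph on the cocliques of 21 vertices -/
def ptsPerm (σ : Δ ≃g Δ) : Equiv.Perm ↥(cocliques Δ) where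
  toFun C := ⟨C.1.image σ, image_mem_cocliques σ C.2⟩
  invFun C := ⟨C.1.image σ.symm, image_mem_cocliques σ.symm C.2⟩
  left_inv C := Subtype.ext (by
    show (C.1.image σ).image σ.symm = C.1
    rw [Finset.image_image]
    ext x
    simp)
  right_inv C := Subtype.ext (by
    show (C.1.image σ.symm).image σ = C.1
    rw [Finset.image_image]
    ext x
    simp)

theorem ptsPerm_smul (σ : Δ ≃g Δ) (v : W) : ptsPerm σ • ptsOf Δ v = ptsOf Δ (σ v) := by
  ext C
  rw [← Finset.inv_smul_mem_iff, mem_ptsOf, mem_ptsOf]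
  show v ∈ C.1.image σ.symm ↔ _
  simp only [Finset.mem_image]
  constructor
  · rintro ⟨a, ha, rfl⟩
    simpa using ha
  · intro hv
    exact ⟨σ v, hv, by simp⟩

theorem ptsPerm_mem (σ : Δ ≃g Δ) : ptsPerm σ ∈ setSystemAut (Set.range (ptsOf Δ)) := by
  refine MulAction.mem_stabilizer_iff.2 ?_
  rw [Set.smul_set_range]
  ext b
  constructor
  · rintro ⟨v, rfl⟩
    exact ⟨σ v, (ptsPerm_smul σ v).symm⟩
  · rintro ⟨v, rfl⟩
    exact ⟨σ.symm v, (ptsPerm_smul σ (σ.symm v)).trans (by simp)⟩

/-- the automorphism group of such a graph is small -/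
theorem natCard_aut_le (h : Δ.IsSRGWith 77 16 0 4) : Nat.card (Δ ≃g Δ) ≤ 887040 := by
  classical
  have h22 : Fintype.card ↥(cocliques Δ) = 22 := by rw [Fintype.card_coe, cocliques_card h]
  obtain ⟨hc, -, -⟩ := SteinerUnique.aut22 h22 (steiner_ptsOf h)
  rw [← hc]
  refine Nat.card_le_card_of_injective
    (fun σ => (⟨ptsPerm σ, ptsPerm_mem σ⟩ : setSystemAut (Set.range (ptsOf Δ)))) ?_
  intro σ τ e
  have e' : ptsPerm σ = ptsPerm τ := congrArg Subtype.val e
  refine RelIso.ext fun v => ptsOf_injective h ?_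
  rw [← ptsPerm_smul, ← ptsPerm_smul, e']

end Graph

section Groups

variable {X : Type*} [Group X] [Finite X]

theorem le_of_two_simple (hX : Nat.card X ≤ 887040) (H₁ H₂ : Subgroup X)
    (h₁ : Nat.card H₁ = 443520) (h₂ : Nat.card H₂ = 443520) [IsSimpleGroup H₁] : H₁ ≤ H₂ := by
  have hmul := Subgroup.card_mul_index H₂
  rw [h₂] at hmul
  have hi : H₂.index ≤ 2 := by omega
  have hi0 : H₂.index ≠ 0 := Subgroup.index_ne_zero_of_finite
  obtain h | h : H₂.index = 1 ∨ H₂.index = 2 := by omega
  · exact (Subgroup.index_eq_one.1 h).symm ▸ le_top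
  · haveI : H₂.Normal := Subgroup.normal_of_index_eq_two h
    rcases IsSimpleGroup.eq_bot_or_eq_top_of_normal (H₂.subgroupOf H₁) inferInstance with hb | ht
    · exfalso
      have hd : Disjoint H₁ H₂ := by
        rw [Subgroup.subgroupOf_eq_bot] at hb
        exact hb.symm
      have hle := Nat.card_le_card_of_injective (fun q : H₁ × H₂ => (q.1 : X) * q.2)
        (Subgroup.mul_injective_of_disjoint hd)
      rw [Nat.card_prod, h₁, h₂] at hle
      omega
    · exact Subgroup.subgroupOf_eq_top.1 ht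

/-- two simple groups of this order inside a group of twice the order are isomorphic -/
theorem iso_of_injective {G K : Type*} [Group G] [Group K] [IsSimpleGroup G]
    (hG : Nat.card G = 443520) (hK : Nat.card K = 443520) (hX : Nat.card X ≤ 887040)
    (f : G →* X) (g : K →* X) (hf : Function.Injective f) (hg : Function.Injective g) :
    Nonempty (G ≃* K) := by
  let eG : G ≃* f.range := MonoidHom.ofInjective hf
  let eK : K ≃* g.range := MonoidHom.ofInjective hg
  haveI : IsSimpleGroup f.range := eG.symm.isSimpleGroup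
  have hcG : Nat.card f.range = 443520 := (Nat.card_congr eG.toEquiv).symm.trans hG
  have hcK : Nat.card g.range = 443520 := (Nat.card_congr eK.toEquiv).symm.trans hK
  have e : f.range = g.range :=
    Subgroup.eq_of_le_of_card_ge (le_of_two_simple hX _ _ hcG hcK) (by rw [hcG, hcK])
  exact ⟨eG.trans ((MulEquiv.subgroupCongr e).trans eK.symm)⟩

end Groups

/-- conjugation by an isomorphism of graphs -/
def autTransport {V W : Type*} {Γ : SimpleGraph V} {Δ : SimpleGraph W} (e : Γ ≃g Δ) :
    (Γ ≃g Γ) →* (Δ ≃g Δ) where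
  toFun σ := e.symm.trans (σ.trans e)
  map_one' := RelIso.ext fun x => by simp
  map_mul' σ τ := RelIso.ext fun x => by simp

theorem autTransport_injective {V W : Type*} {Γ : SimpleGraph V} {Δ : SimpleGraph W}
    (e : Γ ≃g Δ) : Function.Injective (autTransport e) := by
  intro σ τ h
  refine RelIso.ext fun x => e.injective ?_
  have := congrArg (fun a : Δ ≃g Δ => a (e x)) h
  simpa [autTransport] using this

theorem iso : StmtIso.{u} := by
  intro G _ _ K _ _ hFG hFK V _ _ Γ _ W _ _ Δ _ φ ψ hΓ hΔ hφ hψ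
  classical
  obtain ⟨e⟩ := srg77_unique hΓ hΔ
  haveI : Finite (Δ ≃g Δ) := Finite.of_injective (fun σ : Δ ≃g Δ => σ.toEquiv)
    fun σ τ h => RelIso.ext fun x => congrArg (fun q : W ≃ W => q x) h
  haveI := hFG.simple
  exact iso_of_injective hFG.card hFK.card (natCard_aut_le hΔ) ((autTransport e).comp φ) ψ
    ((autTransport_injective e).comp hφ) hψ

end CfsgLib.M22Nse
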