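import Cfsg.Agent.Lib.M22Nse.Sixteen.Pair

/-!
# The elementary abelian subgroup of order sixteen and its normaliser
-/

set_option autoImplicit false
set_option linter.unusedSectionVars false

namespace CfsgLib.M22Nse

namespace Six

open Subgroup

universe u

variable {G : Type u} [Group G] [Finite G]

theorem inv_of_sq {a : G} (h : a * a = 1) : a⁻¹ = a := inv_eq_of_mul_eq_one_right h

theorem eq_one_of_inf {H K : Subgroup G} (hd : H ⊓ K = ⊥) {a : G} (h1 : a ∈ H) (h2 : a ∈ K) :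
    a = 1 := mem_bot.1 (hd ▸ mem_inf.2 ⟨h1, h2⟩)

theorem ncard_four (F : Facts G) {u : G} (hu : orderOf u = 3) :
    ((four u : Subgroup G) : Set G).ncard = 4 :=
  (Nat.card_coe_set_eq _).symm.trans (card_four F hu)

/-- a conjugation preserving two disjoint commuting groups up to their union preserves one -/
theorem conj_same {H K : Subgroup G} (hd : H ⊓ K = ⊥) {g z : G} (hz : z ∈ H) (hz1 : z ≠ 1)
    (hgz : g * z * g⁻¹ = z)
    (h : ∀ v ∈ H, v ≠ 1 → g * v * g⁻¹ ∈ H ∨ g * v * g⁻¹ ∈ K) :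
    ∀ v ∈ H, g * v * g⁻¹ ∈ H := by
  intro v hv
  rcases eq_or_ne v 1 with rfl | hv1
  · simp
  rcases h v hv hv1 with h1 | h1
  · exact h1
  exfalso
  rcases eq_or_ne v z with rfl | hvz
  · rw [hgz] at h1
    exact hv1 (eq_one_of_inf hd hv h1)
  rcases eq_or_ne (z * v) 1 with hzv | hzv
  · refine hv1 ?_
    have e : g * v * g⁻¹ = z⁻¹ := by
      rw [← inv_eq_of_mul_eq_one_right hzv, ← conj_inv, hgz]
    rw [e] at h1
    have : z⁻¹ = 1 := eq_one_of_inf hd (H.inv_mem hz) h1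
    exact absurd (inv_eq_one.1 this) hz1
  have e : g * (z * v) * g⁻¹ = z * (g * v * g⁻¹) := by
    calc g * (z * v) * g⁻¹ = (g * z * g⁻¹) * (g * v * g⁻¹) := by group
      _ = _ := by rw [hgz]
  rcases h _ (mul_mem hz hv) hzv with h2 | h2
  · rw [e] at h2
    have h3 : g * v * g⁻¹ ∈ H := (H.mul_mem_cancel_left hz).1 h2
    exact hv1 (conj_eq_one_iff.1 (eq_one_of_inf hd h3 h1))
  · rw [e] at h2
    exact hz1 (eq_one_of_inf hd hz ((K.mul_mem_cancel_right h1).1 h2))

/-- elements of order eight lie in a conjugate of the Sylow subgroup of `C` -/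
theorem exists_eight_C (F : Facts G) {z : G} (hz : orderOf z = 2) :
    ∃ h ∈ centralizer ({z} : Set G), orderOf h = 8 := by
  have : Fact (Nat.Prime 2) := ⟨Nat.prime_two⟩
  set C := centralizer ({z} : Set G)
  obtain ⟨S, hS⟩ := Sylow.exists_subgroup_card_pow_prime 2 (n := 7) (G := C)
    (by rw [F.cent2 z hz]; norm_num)
  have hcard : Nat.card (S.map C.subtype) = 128 := by
    rw [card_map_of_injective (subtype_injective _), hS]; norm_num
  have hmult : (443520 : ℕ).factorization 2 = 7 := by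
    rw [show (443520 : ℕ) = 2 ^ 7 * 3465 by norm_num, Nat.factorization_mul (by norm_num) (by norm_num),
      Finsupp.add_apply, Nat.Prime.factorization_pow Nat.prime_two,
      Nat.factorization_eq_zero_of_not_dvd (by norm_num : ¬ 2 ∣ 3465)]
    simp
  let T : Sylow 2 G := Sylow.ofCard (S.map C.subtype) (by rw [hcard, F.card, hmult]; norm_num)
  obtain ⟨g, hg⟩ := F.exists_eight
  have hp : IsPGroup 2 (zpowers g) := IsPGroup.of_card (n := 3) (by rw [Nat.card_zpowers, hg]; rfl)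
  obtain ⟨Q, hQ⟩ := hp.exists_le_sylow
  obtain ⟨a, ha⟩ := MulAction.exists_smul_eq G Q T
  have hmem : MulAut.conj a • g ∈ (a • Q : Sylow 2 G) :=
    smul_mem_pointwise_smul _ _ _ (hQ (mem_zpowers g))
  rw [ha] at hmem
  exact ⟨a * g * a⁻¹, map_subtype_le S hmem, (conj_order a g).trans hg⟩

variable {P : Sylow 3 G} {s x u : G}

/-- the centraliser of `A` is `A` -/
theorem self_cent (F : Facts G) (D : Data P s x) (hu : u ∈ (P : Subgroup G)) (hu1 : u ≠ 1)
    (hc : ∀ a ∈ four x, ∀ b ∈ four u, Commute a b) (hd : four x ⊓ four u = ⊥) :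
    centralizer ((four x ⊔ four u : Subgroup G) : Set G) = four x ⊔ four u := by
  have hA16 := D.card_A F hu hu1 hc hd
  set A := four x ⊔ four u with hA
  have hAA : A ≤ centralizer (A : Set G) := fun a ha =>
    mem_centralizer_iff.2 fun b hb => (D.comm_A F hu hu1 hc hb ha).eq
  have hcz : centralizer (A : Set G) ≤ centralizer (four x : Set G) :=
    centralizer_le (show (four x : Set G) ⊆ A from le_sup_left (a := four x) (b := four u))
  -- no element of order three
  have h3 : ∀ h ∈ centralizer (A : Set G), orderOf h ≠ 3 := by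
    intro h hh ho
    have hle : A ≤ four h := fun a ha => (mem_four F ho).2
      ⟨(mem_centralizer_iff.1 hh a ha).symm, D.elem_A F hu hu1 hc ha⟩
    have := card_dvd_of_le hle
    rw [hA16, card_four F ho] at this
    norm_num at this
  have hCR : centralizer (A : Set G) ≤ D.O := by
    intro g hg
    have hgC := D.cent_four_le F (hcz hg)
    have h1 : orderOf g ∣ 384 :=
      F.cent2 D.z (orderOf_two ((mem_four F (D.ox F)).1 D.hz).2 D.hz1) ▸
        Subgroup.orderOf_dvd_natCard _ hgC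
    have h2 : ¬ 3 ∣ orderOf g := by
      intro h
      refine h3 _ (pow_mem hg (orderOf g / 3)) ?_
      rw [orderOf_pow_of_dvd (Nat.div_pos (Nat.le_of_dvd (orderOf_pos g) h) (by norm_num)).ne'
        (Nat.div_dvd_of_dvd h), Nat.div_div_self h (orderOf_pos g).ne']
    have h4 : orderOf g ∣ 2 ^ 7 := by
      refine Nat.Coprime.dvd_of_dvd_mul_right ?_ (show orderOf g ∣ 2 ^ 7 * 3 by simpa using h1)
      exact ((Nat.Prime.coprime_iff_not_dvd Nat.prime_three).2 h2).symm
    exact (D.mem_R_of_pow F (hcz hg) (k := 7) (orderOf_dvd_iff_pow_eq_one.1 h4)).1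
  set K := centralizer (A : Set G) with hK
  have hxA : x ∈ normalizer (A : Set G) := D.P_norm_A F hu hc hu1 D.hx
  have h32 : Nat.card K ≠ 32 := D.card_ne F (le_sup_left.trans hAA) hCR fun g hg =>
    mem_centralizer_iff.2 fun a ha => by
      have h' : x⁻¹ * a * x ∈ A := (mem_normalizer_iff.1 hxA _).2 (by simpa [mul_assoc] using ha)
      calc a * (x * g * x⁻¹) = x * ((x⁻¹ * a * x) * g) * x⁻¹ := by group
        _ = x * (g * (x⁻¹ * a * x)) * x⁻¹ := by rw [mem_centralizer_iff.1 hg _ h']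
        _ = x * g * x⁻¹ * a := by group
  have h64 : Nat.card K ≠ 64 := by
    intro h
    have hKO : K = D.O := eq_of_le_of_card_ge hCR (by rw [h, D.card_O])
    have hnot : ¬ D.O ≤ A := fun hle => by
      have := card_dvd_of_le hle
      rw [D.card_O, hA16] at this
      norm_num at this
    have hPO : (P : Subgroup G) ≤ normalizer (D.O : Set G) := fun p hp => by
      rw [← hKO]
      exact mem_normalizer_of_conj fun g hg => mem_centralizer_iff.2 fun a ha => by
        have h' : p⁻¹ * a * p ∈ A :=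
          (mem_normalizer_iff.1 (D.P_norm_A F hu hc hu1 hp) _).2 (by simpa [mul_assoc] using ha)
        calc a * (p * g * p⁻¹) = p * ((p⁻¹ * a * p) * g) * p⁻¹ := by group
          _ = p * (g * (p⁻¹ * a * p)) * p⁻¹ := by rw [mem_centralizer_iff.1 hg _ h']
          _ = p * g * p⁻¹ * a := by group
    obtain ⟨w, hw, hw1, hle, hnle⟩ := exists_four_le F P (D.isPGroup_O F) hPO hnot
    have how := syl_order F P hw hw1
    have hcomm : ∀ a ∈ A, ∀ b ∈ four w, Commute a b := fun a ha b hb =>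
      mem_centralizer_iff.1 (hKO.ge (hle hb)) a ha
    set B := A ⊔ four w with hB
    have hAn : A ≤ normalizer (four w : Set G) := fun a ha => mem_normalizer_of_conj fun b hb => by
      rwa [mul_inv_eq_iff_eq_mul.2 (hcomm a ha b hb).eq]
    have hBsq : ∀ g ∈ B, g * g = 1 := by
      intro g hg
      obtain ⟨a, ha, b, hb, rfl⟩ := (Coprime.mem_sup_iff_of_le_normalizer hAn).1 hg
      rw [(hcomm a ha b hb).symm.mul_mul_mul_comm, D.elem_A F hu hu1 hc ha,
        ((mem_four F how).1 hb).2, one_mul]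
    have hBO : B ≤ D.O := sup_le (D.A_le F hu hu1 hc) hle
    have hBx : x ∈ normalizer (B : Set G) := mem_normalizer_sup hxA
      (mem_normalizer_four F how (Or.inl (mul_inv_eq_iff_eq_mul.2 (syl_comm F P D.hx hw).eq)))
    have hB32 : Nat.card B ≠ 32 := D.card_ne F (le_sup_left.trans le_sup_left) hBO
      fun g hg => (mem_normalizer_iff.1 hBx g).1 hg
    have hB16 : Nat.card B ≠ 16 := fun h' => hnle (le_sup_right.trans
      (eq_of_le_of_card_ge (le_sup_left : A ≤ B) (by rw [h', hA16])).ge)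
    have hd16 : 16 ∣ Nat.card B := hA16 ▸ card_dvd_of_le (le_sup_left : A ≤ B)
    have hd64 : Nat.card B ∣ 64 := D.card_O ▸ card_dvd_of_le hBO
    have hB64 : Nat.card B = 64 := by
      obtain ⟨k, hk⟩ := hd16
      rw [hk] at hd64 hB16 hB32 ⊢
      have hk4 : k ∣ 4 := Nat.dvd_of_mul_dvd_mul_left (by norm_num : 0 < 16) hd64
      have := Nat.le_of_dvd (by norm_num) hk4
      interval_cases k <;> omega
    have hBeq : B = D.O := eq_of_le_of_card_ge hBO (by rw [hB64, D.card_O])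
    obtain ⟨g, hgC, hg⟩ := exists_eight_C F (z := D.z)
      (orderOf_two ((mem_four F (D.ox F)).1 D.hz).2 D.hz1)
    have h2 := D.sq_mem g hgC 3 (orderOf_dvd_iff_pow_eq_one.1 (hg ▸ dvd_refl 8))
    rw [← hBeq] at h2
    have h4 : g ^ 4 = 1 := by rw [show 4 = 2 + 2 from rfl, pow_add]; exact hBsq _ h2
    have := orderOf_dvd_of_pow_eq_one h4
    rw [hg] at this
    norm_num at this
  refine (eq_of_le_of_card_ge hAA ?_).symm
  have hd16 : 16 ∣ Nat.card K := hA16 ▸ card_dvd_of_le hAA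
  have hd64 : Nat.card K ∣ 64 := D.card_O ▸ card_dvd_of_le hCR
  obtain ⟨k, hk⟩ := hd16
  rw [hk] at hd64 h32 h64 ⊢
  rw [hA16]
  have hk4 : k ∣ 4 := Nat.dvd_of_mul_dvd_mul_left (by norm_num : 0 < 16) hd64
  have := Nat.le_of_dvd (by norm_num) hk4
  interval_cases k <;> omega

/-- conjugates under the normaliser -/
def orb (A : Subgroup G) (a : G) : Set G := {b | ∃ g ∈ normalizer (A : Set G), g * a * g⁻¹ = b}

theorem orb_closed {A : Subgroup G} {a b g : G} (hb : b ∈ orb A a)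
    (hg : g ∈ normalizer (A : Set G)) : g * b * g⁻¹ ∈ orb A a := by
  obtain ⟨k, hk, rfl⟩ := hb
  exact ⟨g * k, mul_mem hg hk, by group⟩

theorem card_normalizer {A : Subgroup G} {a : G}
    (hC : centralizer ({a} : Set G) ≤ normalizer (A : Set G)) :
    Nat.card (normalizer (A : Set G)) =
      (orb A a).ncard * Nat.card (centralizer ({a} : Set G)) := by
  classical
  set N := normalizer (A : Set G) with hN
  let _ : MulAction N G :=
    MulAction.compHom G ((ConjAct.toConjAct : G ≃* ConjAct G).toMonoidHom.comp N.subtype)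
  have horb : MulAction.orbit N a = orb A a := by
    ext b
    exact ⟨fun ⟨g, hg⟩ => ⟨g.1, g.2, hg⟩, fun ⟨g, hg, he⟩ => ⟨⟨g, hg⟩, he⟩⟩
  have hst : Nat.card (MulAction.stabilizer N a) = Nat.card (centralizer ({a} : Set G)) :=
    Nat.card_congr
      { toFun := fun g => ⟨g.1.1, mem_centralizer_singleton_iff.2
          (mul_inv_eq_iff_eq_mul.1 (g.2 : (g.1 : G) * a * (g.1 : G)⁻¹ = a))⟩
        invFun := fun g => ⟨⟨g.1, hC g.2⟩,
          (mul_inv_eq_iff_eq_mul.2 (mem_centralizer_singleton_iff.1 g.2) :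
            (g : G) * a * (g : G)⁻¹ = a)⟩
        left_inv := fun _ => rfl
        right_inv := fun _ => rfl }
  rw [← hst, ← horb, ← Nat.card_coe_set_eq,
    Nat.card_congr (MulAction.orbitEquivQuotientStabilizer N a),
    ← card_eq_card_quotient_mul_card_subgroup]

/-- the normaliser is transitive on the involutions of `A` -/
theorem orb_eq (F : Facts G) (D : Data P s x) (E : Data P s u)
    (hc : ∀ a ∈ four x, ∀ b ∈ four u, Commute a b) (hd : four x ⊓ four u = ⊥) :
    ∀ b ∈ four x ⊔ four u, b ≠ 1 → b ∈ orb (four x ⊔ four u) D.z := by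
  have hu := E.hx
  have hu1 := E.hx1
  have hox := D.ox F
  have hou := syl_order F P hu hu1
  have hCx := D.C_norm_A F hu hu1 hc hd
  have hCu : centralizer ({E.z} : Set G) ≤
      normalizer ((four x ⊔ four u : Subgroup G) : Set G) := by
    have h := E.C_norm_A F D.hx D.hx1 (fun a ha b hb => (hc b hb a ha).symm) (inf_comm (four x) (four u) ▸ hd)
    rwa [sup_comm] at h
  have hself := self_cent F D hu hu1 hc hd
  set A := four x ⊔ four u with hA
  set N := normalizer (A : Set G) with hN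
  have hPN : (P : Subgroup G) ≤ N := D.P_norm_A F hu hc hu1
  have huz : u ∉ zpowers x := by
    intro h
    obtain ⟨n, rfl⟩ := mem_zpowers_iff.1 h
    refine E.hz1 (eq_one_of_inf hd ((mem_four F hox).2 ⟨?_, ((mem_four F hou).1 E.hz).2⟩) E.hz)
    obtain ⟨m, hm⟩ : ∃ m : ℤ, (x ^ n) ^ m = x := by
      have e : zpowers (x ^ n) = zpowers x := eq_of_le_of_card_ge
        (zpowers_le.2 (zpow_mem (mem_zpowers x) n))
        (by rw [Nat.card_zpowers, Nat.card_zpowers, hou, hox])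
      exact mem_zpowers_iff.1 (e.symm ▸ mem_zpowers x)
    have h := ((mem_four F hou).1 E.hz).1.zpow_left m
    rwa [hm] at h
  have hxu : x ∉ zpowers u := fun h => huz (by
    have e : zpowers x = zpowers u := eq_of_le_of_card_ge (zpowers_le.2 h)
      (by rw [Nat.card_zpowers, Nat.card_zpowers, hou, hox])
    exact e.symm ▸ mem_zpowers u)
  -- the three kinds
  have hV : ∀ a, a ∈ orb A D.z → a ∈ four x → a ≠ 1 → ∀ b ∈ four x, b ≠ 1 → b ∈ orb A D.z := by
    intro a ha hax ha1 b hb hb1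
    obtain ⟨p, hp, rfl⟩ := trans_four F P D.hx D.hx1 hu huz hax ha1 hb hb1
    exact orb_closed ha (hPN (zpowers_le.2 hu hp))
  have hz : D.z ∈ orb A D.z := ⟨1, one_mem _, by group⟩
  have hVall := hV _ hz D.hz D.hz1
  have hU : ∀ a, a ∈ four u → a ≠ 1 → a ∈ orb A D.z → ∀ b ∈ four u, b ≠ 1 → b ∈ orb A D.z := by
    intro a hau ha1 ha b hb hb1
    obtain ⟨p, hp, rfl⟩ := trans_four F P hu hu1 D.hx hxu hau ha1 hb hb1
    exact orb_closed ha (hPN (zpowers_le.2 D.hx hp))
  have hM : ∀ a ∈ four x, a ≠ 1 → ∀ b ∈ four u, b ≠ 1 → a * b ∈ orb A D.z →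
      ∀ a' ∈ four x, a' ≠ 1 → ∀ b' ∈ four u, b' ≠ 1 → a' * b' ∈ orb A D.z := by
    intro a ha ha1 b hb hb1 hab a' ha' ha1' b' hb' hb1'
    obtain ⟨p, hp, rfl⟩ := trans_four F P D.hx D.hx1 hu huz ha ha1 ha' ha1'
    obtain ⟨q, hq, rfl⟩ := trans_four F P hu hu1 D.hx hxu hb hb1 hb' hb1'
    have hpb : Commute p b := by
      obtain ⟨n, rfl⟩ := mem_zpowers_iff.1 hp
      exact ((mem_four F hou).1 hb).1.zpow_left n
    have hqa : Commute q (p * a * p⁻¹) := by
      obtain ⟨n, rfl⟩ := mem_zpowers_iff.1 hq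
      exact ((mem_four F hox).1 ha').1.zpow_left n
    have e : p * a * p⁻¹ * (q * b * q⁻¹) = q * (p * (a * b) * p⁻¹) * q⁻¹ := by
      calc p * a * p⁻¹ * (q * b * q⁻¹) = (q * (p * a * p⁻¹) * q⁻¹) * (q * (p * b * p⁻¹) * q⁻¹) := by
            rw [mul_inv_eq_iff_eq_mul.2 hqa.eq, mul_inv_eq_iff_eq_mul.2 hpb.eq]
        _ = _ := by group
    rw [e]
    exact orb_closed (orb_closed hab (hPN (zpowers_le.2 hu hp))) (hPN (zpowers_le.2 D.hx hq))
  have hsubA : ∀ {c : G}, c ∈ A → ∀ b ∈ orb A c, b ∈ A := by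
    rintro c hc' _ ⟨g, hg, rfl⟩
    exact (mem_normalizer_iff.1 hg c).1 hc'
  have hzA : D.z ∈ A := le_sup_left (b := four u) D.hz
  have hzu : E.z ∈ A := le_sup_right (a := four x) E.hz
  have hne1 : ∀ {c : G}, c ≠ 1 → ∀ b ∈ orb A c, b ≠ 1 := by
    rintro c hc' _ ⟨g, -, rfl⟩ h
    exact hc' (conj_eq_one_iff.1 h)
  -- same size
  have hsize : (orb A D.z).ncard = (orb A E.z).ncard := by
    have h1 := card_normalizer hCx
    have h2 := card_normalizer hCu
    rw [F.cent2 _ (orderOf_two ((mem_four F hox).1 D.hz).2 D.hz1)] at h1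
    rw [F.cent2 _ (orderOf_two ((mem_four F hou).1 E.hz).2 E.hz1)] at h2
    rw [h1] at h2
    omega
  -- some element outside the union of the two four groups is reached
  obtain ⟨a₀, ha₀, ha₁, b₀, hb₀, hb₁, hab₀⟩ : ∃ a ∈ four x, a ≠ 1 ∧ ∃ b ∈ four u, b ≠ 1 ∧
      a * b ∈ orb A D.z := by
    by_contra hcon
    push Not at hcon
    have hW : ∀ b ∈ orb A D.z, b ∈ four x ∨ b ∈ four u := by
      intro b hb
      obtain ⟨a, ha, c, hc', rfl⟩ := (mem_sup_four hc).1 (hsubA hzA b hb)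
      rcases eq_or_ne a 1 with rfl | ha1
      · exact Or.inr (by simpa using hc')
      rcases eq_or_ne c 1 with rfl | hc1
      · exact Or.inl (by simpa using ha)
      exact absurd hb (hcon a ha ha1 c hc' hc1)
    have hOV : ∀ o ∈ D.O, ∀ v ∈ four x, Commute o v := by
      intro o ho v hv
      have hoN := hCx (D.O_le ho)
      have h1 := conj_same hd D.hz D.hz1 (mul_inv_eq_iff_eq_mul.2 (D.comm_z ho).eq)
        (fun w hw hw1 => hW _ (orb_closed (hVall w hw hw1) hoN)) v hv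
      exact mul_inv_eq_iff_eq_mul.1 (D.conj_fix F ho hv h1)
    by_cases hU0 : ∃ b ∈ four u, b ≠ 1 ∧ b ∈ orb A D.z
    · obtain ⟨b1, hb1, hb11, hb1o⟩ := hU0
      have hUall := hU b1 hb1 hb11 hb1o
      have hOU : ∀ o ∈ D.O, ∀ b ∈ four u, o * b * o⁻¹ ∈ four u := by
        intro o ho b hb
        rcases eq_or_ne b 1 with rfl | hb'
        · simp
        rcases hW _ (orb_closed (hUall b hb hb') (hCx (D.O_le ho))) with h | h
        · exfalso
          have e : o * b * o⁻¹ = o * (o * b * o⁻¹) * o⁻¹ :=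
            (mul_inv_eq_iff_eq_mul.2 (hOV o ho _ h).eq).symm
          have : b = o * b * o⁻¹ := mul_left_cancel (mul_right_cancel e)
          exact hb' (eq_one_of_inf hd (this.symm ▸ h) hb)
        · exact h
      exact false_of_O_norm F D hu hu1 hc hd hOV hOU
    · push Not at hU0
      -- the orbit is the set of involutions of the four group of `x`
      have horb : orb A D.z = (four x : Set G) \ {1} := by
        ext b
        refine ⟨fun hb => ⟨(hW b hb).resolve_right fun h => hU0 b h (hne1 D.hz1 b hb) hb,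
          hne1 D.hz1 b hb⟩, fun hb => hVall b hb.1 hb.2⟩
      have hOU : ∀ o ∈ D.O, ∀ b ∈ four u, o * b * o⁻¹ ∈ four u := by
        intro o ho b hb
        have hsub : orb A E.z ⊆ (A : Set G) \ (four x : Set G) := fun c hc' => by
          refine ⟨hsubA hzu c hc', fun hcx => ?_⟩
          obtain ⟨g, hg, rfl⟩ := hc'
          have h1 := orb_closed (hVall _ hcx (hne1 E.hz1 _ ⟨g, hg, rfl⟩)) (inv_mem hg)
          rw [show g⁻¹ * (g * E.z * g⁻¹) * g⁻¹⁻¹ = E.z by group] at h1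
          exact hU0 _ E.hz E.hz1 h1
        rcases eq_or_ne b 1 with rfl | hb1
        · simp
        have hbo : b ∈ orb A E.z := by
          obtain ⟨p, hp, rfl⟩ := trans_four F P hu hu1 D.hx hxu E.hz E.hz1 hb hb1
          exact ⟨p, hPN (zpowers_le.2 D.hx hp), rfl⟩
        have hUsub : ((four u : Set G) \ {1}) ⊆ orb A E.z := fun c hc' => by
          obtain ⟨p, hp, rfl⟩ := trans_four F P hu hu1 D.hx hxu E.hz E.hz1 hc'.1 hc'.2
          exact ⟨p, hPN (zpowers_le.2 D.hx hp), rfl⟩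
        have heq : ((four u : Set G) \ {1}) = orb A E.z := by
          refine Set.eq_of_subset_of_ncard_le hUsub ?_ (Set.toFinite _)
          rw [← hsize, horb, Set.ncard_sdiff_singleton_of_mem (one_mem (four x)),
            Set.ncard_sdiff_singleton_of_mem (one_mem (four u)), ncard_four F hox,
            ncard_four F hou]
        have := orb_closed hbo (hCx (D.O_le ho))
        rw [← heq] at this
        exact this.1
      exact false_of_O_norm F D hu hu1 hc hd hOV hOU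
  have hMall := hM a₀ ha₀ ha₁ b₀ hb₀ hb₁ hab₀
  -- the four group of `u` is reached too
  obtain ⟨b₁, hb₁', hb₁1, hb₁o⟩ : ∃ b ∈ four u, b ≠ 1 ∧ b ∈ orb A D.z := by
    by_contra hcon
    push Not at hcon
    have hsub : orb A E.z ⊆ (four u : Set G) \ {1} := by
      intro c hc'
      refine ⟨?_, hne1 E.hz1 c hc'⟩
      obtain ⟨a, ha, b, hb, rfl⟩ := (mem_sup_four hc).1 (hsubA hzu c hc')
      rcases eq_or_ne a 1 with rfl | ha1
      · simpa using hb
      exfalso
      have hin : a * b ∈ orb A D.z := by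
        rcases eq_or_ne b 1 with rfl | hb1
        · simpa using hVall a ha ha1
        · exact hMall a ha ha1 b hb hb1
      obtain ⟨g, hg, he⟩ := hc'
      rw [← he] at hin
      have h1 := orb_closed hin (inv_mem hg)
      rw [show g⁻¹ * (g * E.z * g⁻¹) * g⁻¹⁻¹ = E.z by group] at h1
      exact hcon _ E.hz E.hz1 h1
    have hbig : 4 ≤ (orb A D.z).ncard := by
      have hs : insert (a₀ * b₀) ((four x : Set G) \ {1}) ⊆ orb A D.z :=
        Set.insert_subset hab₀ fun c hc' => hVall c hc'.1 hc'.2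
      have hn : a₀ * b₀ ∉ (four x : Set G) \ {1} := fun h => hb₁ (eq_one_of_inf hd
        (((four x).mul_mem_cancel_left ha₀).1 h.1) hb₀)
      refine le_trans ?_ (Set.ncard_le_ncard hs (Set.toFinite _))
      rw [Set.ncard_insert_of_notMem hn (Set.toFinite _),
        Set.ncard_sdiff_singleton_of_mem (one_mem (four x)), ncard_four F hox]
    have hsmall := Set.ncard_le_ncard hsub (Set.toFinite _)
    rw [Set.ncard_sdiff_singleton_of_mem (one_mem (four u)), ncard_four F hou, ← hsize] at hsmall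
    omega
  intro c hc' hc1
  obtain ⟨a, ha, b, hb, rfl⟩ := (mem_sup_four hc).1 hc'
  rcases eq_or_ne a 1 with rfl | ha1
  · rw [one_mul] at hc1 ⊢
    exact hU b₁ hb₁' hb₁1 hb₁o b hb hc1
  rcases eq_or_ne b 1 with rfl | hb1
  · rw [mul_one]
    exact hVall a ha ha1
  exact hMall a ha ha1 b hb hb1
where
  /-- `O` cannot centralise one four group and normalise the other -/
  false_of_O_norm (F : Facts G) (D : Data P s x) (hu : u ∈ (P : Subgroup G)) (hu1 : u ≠ 1)
      (hc : ∀ a ∈ four x, ∀ b ∈ four u, Commute a b) (hd : four x ⊓ four u = ⊥)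
      (hOV : ∀ o ∈ D.O, ∀ v ∈ four x, Commute o v)
      (hOU : ∀ o ∈ D.O, ∀ b ∈ four u, o * b * o⁻¹ ∈ four u) : False := by
    classical
    have hou := syl_order F P hu hu1
    have hxu : x ∉ zpowers u := by
      intro h
      obtain ⟨y, hy, hy1⟩ : ∃ y ∈ four u, y ≠ 1 := by
        have : Nontrivial (four u) := Finite.one_lt_card_iff_nontrivial.1 (by
          rw [card_four F hou]; norm_num)
        obtain ⟨⟨y, hy⟩, hy1⟩ := exists_ne (1 : four u)
        exact ⟨y, hy, fun h => hy1 (Subtype.ext h)⟩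
      obtain ⟨n, rfl⟩ := mem_zpowers_iff.1 h
      exact hy1 (eq_one_of_inf hd ((mem_four F (D.ox F)).2
        ⟨((mem_four F hou).1 hy).1.zpow_left n, ((mem_four F hou).1 hy).2⟩) hy)
    -- a fixed involution
    obtain ⟨w, hw, hw1, hwO⟩ : ∃ w ∈ four u, w ≠ 1 ∧ ∀ o ∈ D.O, Commute o w := by
      let _ : MulAction D.O (four u) :=
        { smul := fun o b => ⟨(o : G) * b.1 * (o : G)⁻¹, hOU o o.2 b b.2⟩
          one_smul := fun b => Subtype.ext (show (1 : G) * b.1 * (1 : G)⁻¹ = b.1 by simp)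
          mul_smul := fun o r b => Subtype.ext
            (show (o : G) * r * b.1 * ((o : G) * r)⁻¹ = o * (r * b.1 * (r : G)⁻¹) * (o : G)⁻¹ by
              group) }
      have : Fact (Nat.Prime 2) := ⟨Nat.prime_two⟩
      obtain ⟨b, hb, hb1⟩ := (D.isPGroup_O F).exists_fixed_point_of_prime_dvd_card_of_fixed_point
        (four u) (by rw [card_four F hou]; norm_num) (a := 1)
        (fun o => Subtype.ext (show (o : G) * ((1 : four u) : G) * (o : G)⁻¹ = ((1 : four u) : G) by simp))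
      exact ⟨b.1, b.2, fun h => hb1 (Subtype.ext h.symm),
        fun o ho => mul_inv_eq_iff_eq_mul.1 (congrArg Subtype.val (hb ⟨o, ho⟩) :)⟩
    have hOU' : ∀ o ∈ D.O, ∀ b ∈ four u, Commute o b := by
      intro o ho b hb
      rcases eq_or_ne b 1 with rfl | hb1
      · exact Commute.one_right o
      obtain ⟨p, hp, rfl⟩ := trans_four F P hu hu1 D.hx hxu hw hw1 hb hb1
      have hpC : p ∈ centralizer ({D.z} : Set G) := zpowers_le.2 (D.x_mem_C F) hp
      have h1 : p⁻¹ * o * p ∈ D.O := by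
        simpa using D.O_norm p⁻¹ (inv_mem hpC) o ho
      calc o * (p * w * p⁻¹) = p * ((p⁻¹ * o * p) * w) * p⁻¹ := by group
        _ = p * (w * (p⁻¹ * o * p)) * p⁻¹ := by rw [(hwO _ h1).eq]
        _ = p * w * p⁻¹ * o := by group
    have hle : D.O ≤ centralizer ((four x ⊔ four u : Subgroup G) : Set G) := fun o ho =>
      mem_centralizer_iff.2 fun c hc' => by
        obtain ⟨a, ha, b, hb, rfl⟩ := (mem_sup_four hc).1 hc'
        exact ((hOV o ho a ha).mul_right (hOU' o ho b hb)).eq.symm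
    rw [self_cent F D hu hu1 hc hd] at hle
    have := card_dvd_of_le hle
    rw [D.card_O, D.card_A F hu hu1 hc hd] at this
    norm_num at this

/-- no abelian subgroup of order eight in the centraliser of `z` avoids `A` -/
theorem no_abelian_z (F : Facts G) (D : Data P s x) (hu : u ∈ (P : Subgroup G)) (hu1 : u ≠ 1)
    (hc : ∀ a ∈ four x, ∀ b ∈ four u, Commute a b) (hd : four x ⊓ four u = ⊥) (W : Subgroup G)
    (hW : W ≤ centralizer ({D.z} : Set G)) (hab : ∀ v ∈ W, ∀ w ∈ W, v * w = w * v)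
    (h8 : Nat.card W = 8) : ¬ Disjoint W (four x ⊔ four u) := by
  intro hdis
  have hCx := D.C_norm_A F hu hu1 hc hd
  have hA16 := D.card_A F hu hu1 hc hd
  have hAO := D.A_le F hu hu1 hc
  set A := four x ⊔ four u with hA
  have hzC := orderOf_two ((mem_four F (D.ox F)).1 D.hz).2 D.hz1
  set H := W ⊔ A with hH
  have hHn : W ≤ normalizer (A : Set G) := hW.trans hCx
  have hHc : Nat.card H = 128 := by
    rw [hH, Coprime.card_sup_of_inf_eq_bot hHn (disjoint_iff.1 hdis), h8, hA16]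
  have hHC : H ≤ centralizer ({D.z} : Set G) := sup_le hW (hAO.trans D.O_le)
  have hHO : H ⊔ D.O = H := by
    have hn : H ≤ normalizer (D.O : Set G) := fun h hh =>
      mem_normalizer_of_conj (D.O_norm h (hHC hh))
    have h1 := Coprime.card_sup_dvd hn
    rw [hHc, D.card_O] at h1
    have h2 := F.cent2 D.z hzC ▸ card_dvd_of_le (sup_le hHC D.O_le : H ⊔ D.O ≤ _)
    have h3 : Nat.card ↥(H ⊔ D.O) ∣ Nat.gcd (128 * 64) 384 := Nat.dvd_gcd h1 h2
    refine (eq_of_le_of_card_ge le_sup_left ?_).symm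
    rw [hHc]
    exact Nat.le_of_dvd (by norm_num) (by simpa using h3)
  have hOH : D.O ≤ H := hHO ▸ le_sup_right
  obtain ⟨w, hw, hwO⟩ : ∃ w ∈ W, w ∉ D.O := by
    by_contra hcon
    push Not at hcon
    have := card_dvd_of_le (sup_le hcon hAO : H ≤ D.O)
    rw [hHc, D.card_O] at this
    norm_num at this
  -- `w` centralises `O / A`
  have hwc : ∀ o ∈ D.O, (w * o * w⁻¹) * o⁻¹ ∈ A := by
    intro o ho
    obtain ⟨v, hv, a, ha, rfl⟩ := (Coprime.mem_sup_iff_of_le_normalizer hHn).1 (hOH ho)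
    have e : w * (v * a) * w⁻¹ * (v * a)⁻¹ =
        (v * (w * a * w⁻¹) * v⁻¹) * (v * a⁻¹ * v⁻¹) := by
      calc w * (v * a) * w⁻¹ * (v * a)⁻¹ = (w * v) * a * (v⁻¹ * v) * w⁻¹ * a⁻¹ * v⁻¹ := by group
        _ = (v * w) * a * (v⁻¹ * v) * w⁻¹ * a⁻¹ * v⁻¹ := by rw [hab w hw v hv]
        _ = _ := by group
    rw [e]
    exact mul_mem ((mem_normalizer_iff.1 (hHn hv) _).1 ((mem_normalizer_iff.1 (hHn hw) a).1 ha))
      ((mem_normalizer_iff.1 (hHn hv) _).1 (inv_mem ha))
  obtain ⟨o', ho', i, j, hwe⟩ := D.decomp w (hW hw)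
  obtain ⟨k, hk⟩ : ∃ k : ℕ, w ^ 2 ^ k = 1 := ⟨3, by
    have h1 := W.orderOf_dvd_natCard hw
    rw [h8] at h1
    exact orderOf_dvd_iff_pow_eq_one.1 h1⟩
  have hxC := D.x_mem_C F
  have hxN : x ∈ normalizer (A : Set G) := hCx hxC
  fin_cases j
  · refine hwO ?_
    have e : w = o' * x ^ (i : ℕ) := by simpa using hwe
    rw [e]
    have hsq := D.sq_mem w (hW hw) k hk
    have hxi : x ^ (2 * (i : ℕ)) ∈ D.O := by
      have : x ^ (2 * (i : ℕ)) =
          (o' * (x ^ (i : ℕ) * o' * (x ^ (i : ℕ))⁻¹))⁻¹ * w ^ 2 := by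
        rw [e, pow_two, two_mul, pow_add]; group
      rw [this]
      exact mul_mem (inv_mem (mul_mem ho' (D.O_norm _ (pow_mem hxC _) o' ho'))) hsq
    refine mul_mem ho' ?_
    have h4 : x ^ (i : ℕ) = (x ^ (2 * (i : ℕ))) ^ 2 := by
      rw [← pow_mul, show 2 * (i : ℕ) * 2 = 3 * (i : ℕ) + (i : ℕ) by ring, pow_add, pow_mul, D.x3 F,
        one_pow, one_mul]
    rw [h4]; exact pow_mem hxi 2
  -- modulo `A`, `x ^ i * s` is trivial on `O`
  have e : w = o' * x ^ (i : ℕ) * s := by simpa using hwe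
  set y := x ^ (i : ℕ) with hy
  have hsC : s ∈ centralizer ({D.z} : Set G) := mem_centralizer_singleton_iff.2 D.hsz.eq
  have hyC : y ∈ centralizer ({D.z} : Set G) := pow_mem hxC _
  have hOA : ∀ o ∈ D.O, ∀ o₂ ∈ D.O, o * o₂ * o⁻¹ * o₂⁻¹ ∈ A := by
    intro o ho o₂ ho₂
    obtain ⟨v, hv, a, ha, rfl⟩ := (Coprime.mem_sup_iff_of_le_normalizer hHn).1 (hOH ho)
    obtain ⟨v₂, hv₂, a₂, ha₂, rfl⟩ := (Coprime.mem_sup_iff_of_le_normalizer hHn).1 (hOH ho₂)
    have hn : ∀ t ∈ W, ∀ c ∈ A, t * c * t⁻¹ ∈ A := fun t ht c hc' =>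
      (mem_normalizer_iff.1 (hHn ht) c).1 hc'
    have e2 : v * a * (v₂ * a₂) * (v * a)⁻¹ * (v₂ * a₂)⁻¹ =
        (v * a * v⁻¹) * ((v * v₂) * a₂ * (v * v₂)⁻¹) *
          (v₂ * (v * a⁻¹ * v⁻¹) * v₂⁻¹) * (v₂ * a₂⁻¹ * v₂⁻¹) := by
      calc v * a * (v₂ * a₂) * (v * a)⁻¹ * (v₂ * a₂)⁻¹
          = (v * a * v⁻¹) * (v * v₂) * a₂ * a⁻¹ * v⁻¹ * a₂⁻¹ * v₂⁻¹ := by group
        _ = (v * a * v⁻¹) * ((v * v₂) * a₂ * (v * v₂)⁻¹) * ((v * v₂) * a⁻¹ * (v * v₂)⁻¹) *
              ((v * v₂) * v⁻¹ * a₂⁻¹ * v₂⁻¹) := by group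
        _ = (v * a * v⁻¹) * ((v * v₂) * a₂ * (v * v₂)⁻¹) * ((v₂ * v) * a⁻¹ * (v₂ * v)⁻¹) *
              ((v₂ * v) * v⁻¹ * a₂⁻¹ * v₂⁻¹) := by rw [hab v hv v₂ hv₂]
        _ = _ := by group
    rw [e2]
    exact mul_mem (mul_mem (mul_mem (hn v hv a ha) (hn _ (mul_mem hv hv₂) a₂ ha₂))
      (hn v₂ hv₂ _ (hn v hv _ (inv_mem ha)))) (hn v₂ hv₂ _ (inv_mem ha₂))
  -- conjugation by `y * s` moves nothing modulo `A`
  have hys : ∀ o ∈ D.O, (y * s) * o * (y * s)⁻¹ * o⁻¹ ∈ A := by
    intro o ho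
    set p := (y * s) * o * (y * s)⁻¹ with hp
    have hpO : p ∈ D.O := D.O_norm _ (mul_mem hyC hsC) o ho
    have h1 := hwc o ho
    have e2 : p * o⁻¹ = (o' * p * o'⁻¹ * p⁻¹)⁻¹ * (w * o * w⁻¹ * o⁻¹) := by
      rw [hp, e]; group
    rw [e2]
    exact mul_mem (inv_mem (hOA o' ho' p hpO)) h1
  have hsinv : ∀ n : ℕ, s * x ^ n * s⁻¹ = (x ^ n)⁻¹ := fun n => D.hinv _ (pow_mem D.hx n)
  have hsi : s⁻¹ = s := inv_of_sq D.hss
  -- so conjugation by `x` and by its inverse agree modulo `A`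
  have hx2 : ∀ o ∈ D.O, (x * x) * o * (x * x)⁻¹ * o⁻¹ ∈ A := by
    intro o ho
    set T := y * s with hT
    have hTT : ∀ n : ℕ, T * x ^ n * T⁻¹ = (x ^ n)⁻¹ := fun n => by
      calc T * x ^ n * T⁻¹ = y * (s * x ^ n * s⁻¹) * y⁻¹ := by rw [hT]; group
        _ = y * (x ^ n)⁻¹ * y⁻¹ := by rw [hsinv]
        _ = (x ^ n)⁻¹ := mul_inv_eq_iff_eq_mul.2 (((Commute.refl x).pow_pow (i : ℕ) n).inv_right).eq
    -- T (x o x⁻¹) T⁻¹ = x⁻¹ (T o T⁻¹) x
    set o₁ := x * o * x⁻¹ with ho₁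
    have ho₁O : o₁ ∈ D.O := D.O_norm x hxC o ho
    have hA1 := hys o₁ ho₁O
    have hA2 := hys o ho
    have e1 : T * o₁ * T⁻¹ = x⁻¹ * (T * o * T⁻¹) * x := by
      have h := hTT 1
      rw [pow_one] at h
      calc T * o₁ * T⁻¹ = (T * x * T⁻¹) * (T * o * T⁻¹) * (T * x * T⁻¹)⁻¹ := by rw [ho₁]; group
        _ = _ := by rw [h, inv_inv]
    have hA2' : x⁻¹ * (T * o * T⁻¹ * o⁻¹) * x ∈ A :=
      (mem_normalizer_iff.1 hxN _).2 (by simpa [mul_assoc] using hA2)
    -- x o₁ ... combine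
    have e3 : x⁻¹ * o * x * o₁⁻¹ = (x⁻¹ * (T * o * T⁻¹ * o⁻¹) * x)⁻¹ * (T * o₁ * T⁻¹ * o₁⁻¹) := by
      rw [e1]; group
    have h4 : x⁻¹ * o * x * o₁⁻¹ ∈ A := e3 ▸ mul_mem (inv_mem hA2') hA1
    have h5 : x * (x⁻¹ * o * x * o₁⁻¹) * x⁻¹ ∈ A := (mem_normalizer_iff.1 hxN _).1 h4
    have e4 : x * x * o * (x * x)⁻¹ * o⁻¹ = (x * (x⁻¹ * o * x * o₁⁻¹) * x⁻¹)⁻¹ := by
      rw [ho₁]
      simp only [mul_inv_rev, inv_inv, mul_assoc, inv_mul_cancel_left, mul_inv_cancel_left,
        mul_inv_cancel]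
    rw [e4]; exact inv_mem h5
  -- hence every coset of `A` in `O` contains an element fixed by `x`
  have hall : D.O ≤ A := by
    intro o ho
    have hx4 : x = (x * x) * (x * x) := by
      have h := D.x3 F
      rw [pow_three] at h
      calc x = x * (x * (x * x)) := by rw [h, mul_one]
        _ = _ := by simp only [mul_assoc]
    have hx1' : x * o * x⁻¹ * o⁻¹ ∈ A := by
      set o₂ := (x * x) * o * (x * x)⁻¹ with ho₂
      have := mul_mem (hx2 o₂ (D.O_norm _ (mul_mem hxC hxC) o ho)) (hx2 o ho)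
      rwa [show x * o * x⁻¹ * o⁻¹ =
        x * x * o₂ * (x * x)⁻¹ * o₂⁻¹ * (x * x * o * (x * x)⁻¹ * o⁻¹) by
          conv_lhs => rw [hx4]
          rw [ho₂]; group]
    obtain ⟨g, hg, hgc⟩ := exists_fixed (D.x3 F) {g | g * o⁻¹ ∈ A} (fun g hg => by
      have h1 : x * (g * o⁻¹) * x⁻¹ ∈ A := (mem_normalizer_iff.1 hxN _).1 hg
      show x * g * x⁻¹ * o⁻¹ ∈ A
      rw [show x * g * x⁻¹ * o⁻¹ = (x * (g * o⁻¹) * x⁻¹) * (x * o * x⁻¹ * o⁻¹) by group]
      exact mul_mem h1 hx1') (by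
      rw [Nat.card_congr (show {g : G | g * o⁻¹ ∈ A} ≃ A from
        { toFun := fun g => ⟨g.1 * o⁻¹, g.2⟩
          invFun := fun a => ⟨a.1 * o, show a.1 * o * o⁻¹ ∈ A by simp⟩
          left_inv := fun g => Subtype.ext (by simp)
          right_inv := fun a => Subtype.ext (by simp) }), hA16]
      norm_num)
    have hgO : g ∈ D.O := by
      have := mul_mem (hAO hg) ho
      simpa using this
    have hgA : g ∈ A := le_sup_left (b := four u) (D.O_fixed F hgO hgc)
    simpa using mul_mem (inv_mem (show g * o⁻¹ ∈ A from hg)) hgA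
  have := card_dvd_of_le hall
  rw [D.card_O, hA16] at this
  norm_num at this

end Six

universe u

open Six Subgroup in
/-- the existence of the subgroup of order sixteen -/
theorem sixteen : StmtSixteen.{u} := by
  intro G _ _ F
  have : Fact (Nat.Prime 3) := ⟨Nat.prime_three⟩
  obtain ⟨P⟩ : Nonempty (Sylow 3 G) := inferInstance
  obtain ⟨x, hx, hx1⟩ : ∃ x ∈ (P : Subgroup G), x ≠ 1 := by
    have : Nontrivial (P : Subgroup G) := Finite.one_lt_card_iff_nontrivial.1 (by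
      rw [card_syl F P]; norm_num)
    obtain ⟨⟨x, hx⟩, hx1⟩ := exists_ne (1 : (P : Subgroup G))
    exact ⟨x, hx, fun h => hx1 (Subtype.ext h)⟩
  obtain ⟨s, hss, hs1, hinv⟩ := exists_inverting F P
  obtain ⟨D⟩ := exists_data F P hx hx1 hss hinv
  obtain ⟨u, hu, hu1, hc, hd⟩ := D.exists_partner F
  obtain ⟨E⟩ := exists_data F P hu hu1 hss hinv
  set A := four x ⊔ four u with hA
  have hA16 : Nat.card A = 16 := D.card_A F hu hu1 hc hd
  have hall := orb_eq F D E hc hd
  have hCx := D.C_norm_A F hu hu1 hc hd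
  have hzA : D.z ∈ A := le_sup_left (b := four u) D.hz
  have hz2 := orderOf_two ((mem_four F (D.ox F)).1 D.hz).2 D.hz1
  have hconj : ∀ a ∈ A, a ≠ 1 → ∀ h ∈ centralizer ({a} : Set G),
      ∀ g ∈ normalizer (A : Set G), g * D.z * g⁻¹ = a →
        g⁻¹ * h * g ∈ centralizer ({D.z} : Set G) := by
    intro a ha ha1 h hh g hg he
    refine mem_centralizer_singleton_iff.2 ?_
    calc g⁻¹ * h * g * D.z = g⁻¹ * (h * (g * D.z * g⁻¹)) * g := by group
      _ = g⁻¹ * ((g * D.z * g⁻¹) * h) * g := by rw [he, mem_centralizer_singleton_iff.1 hh]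
      _ = D.z * (g⁻¹ * h * g) := by group
  refine ⟨{ A := A, card_A := hA16, elem := fun a ha => D.elem_A F hu hu1 hc ha,
            self_cent := self_cent F D hu hu1 hc hd,
            card_N := ?_, cent_le := ?_, trans := ?_,
            syl3 := ⟨P, D.P_norm_A F hu hc hu1, s, D.s_norm_A F hu hc hu1, ?_, ?_⟩,
            no_abelian := ?_ }⟩
  · have horb : orb A D.z = (A : Set G) \ {1} := by
      ext b
      refine ⟨?_, fun hb => hall b hb.1 hb.2⟩
      rintro ⟨g, hg, rfl⟩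
      exact ⟨(mem_normalizer_iff.1 hg _).1 hzA, fun h => D.hz1 (conj_eq_one_iff.1 h)⟩
    rw [card_normalizer hCx, F.cent2 _ hz2, horb, Set.ncard_sdiff_singleton_of_mem (one_mem A),
      (Nat.card_coe_set_eq _).symm.trans hA16]
  · intro a ha ha1 h hh
    obtain ⟨g, hg, he⟩ := hall a ha ha1
    have := mul_mem (mul_mem hg (hCx (hconj a ha ha1 h hh g hg he))) (inv_mem hg)
    simpa [mul_assoc] using this
  · intro a ha ha1 b hb hb1
    obtain ⟨g, hg, rfl⟩ := hall a ha ha1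
    obtain ⟨k, hk, rfl⟩ := hall b hb hb1
    exact ⟨k * g⁻¹, mul_mem hk (inv_mem hg), by group⟩
  · exact mem_normalizer_of_conj fun p hp => by rw [hinv p hp]; exact inv_mem hp
  · intro h
    have h1 := syl_order F P h hs1
    have h2 := orderOf_two hss hs1
    omega
  · intro a ha ha1 W hW hab h8
    obtain ⟨g, hg, he⟩ := hall a ha ha1
    set φ := (MulAut.conj g⁻¹).toMonoidHom with hφ
    have hW' : W.map φ ≤ centralizer ({D.z} : Set G) := by
      rintro _ ⟨h, hh, rfl⟩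
      simpa [hφ] using hconj a ha ha1 h (hW hh) g hg he
    have hab' : ∀ v ∈ W.map φ, ∀ w ∈ W.map φ, v * w = w * v := by
      rintro _ ⟨v, hv, rfl⟩ _ ⟨w, hw, rfl⟩
      rw [← map_mul, ← map_mul, hab v hv w hw]
    intro hdis
    refine no_abelian_z F D hu hu1 hc hd (W.map φ) hW' hab'
      (by rw [card_map_of_injective (MulAut.conj g⁻¹).injective, h8]) ?_
    rw [disjoint_iff, eq_bot_iff]
    rintro _ ⟨⟨v, hv, rfl⟩, hvA⟩
    have hvA' : g⁻¹ * v * g ∈ A := by simpa [hφ] using hvA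
    have hv2 : v ∈ A := by
      have := (mem_normalizer_iff.1 hg _).1 hvA'
      simpa [mul_assoc] using this
    rw [mem_bot, eq_one_of_inf (disjoint_iff.1 hdis) hv hv2, map_one]

end CfsgLib.M22Nse
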