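import Cfsg.Agent.Lib.M22Nse.CountsThree
import Cfsg.Agent.Lib.M22Nse.Sixteen
import Cfsg.Agent.Lib.M22Nse.Graph
import Cfsg.Agent.Lib.M22Nse.Iso

/-!
# Two groups with these numbers of elements of each order are isomorphic
-/

set_option autoImplicit false

namespace CfsgLib.M22Nse

universe u

/-- two such groups are isomorphic -/
theorem nonempty_mulEquiv_of_hyp {G : Type u} [Group G] [Finite G] {M : Type} [Group M] [Finite M]
    (hG : Hyp G) (hM : Hyp M) : Nonempty (G ≃* M) := by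
  have FG := facts G hG
  have FM := facts M hM
  obtain ⟨SG⟩ := sixteen G FG
  obtain ⟨SM⟩ := sixteen M FM
  obtain ⟨V, iV, dV, Γ, rΓ, φ, hΓ, hφ⟩ := graph G FG SG
  obtain ⟨W, iW, dW, Δ, rΔ, ψ, hΔ, hψ⟩ := graph M FM SM
  exact iso G M FG FM V Γ W Δ φ ψ hΓ hΔ hφ hψ

end CfsgLib.M22Nse
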