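/-!
Representatives of five classes of the Mathieu group of degree 22 with search plans for their centralisers.
-/

set_option autoImplicit false

namespace CfsgLib.M22Nse

/-- an element of order 3 with centraliser of order 36 -/
def threeEl : Nat := 975687124666302567564663916811719936

/-- search plan for its centraliser (3654 nodes) -/
def threePlan : List (Nat × Nat × List Nat) :=
  [(23, 1, []),
    (0, 1, []),
    (17, 3, []),
    (1, 3, [11731203]),
    (9, 1, []),
    (2, 3, [3277413]),
    (3, 3, [8536111, 9506893]),
    (15, 3, [13062145, 2605066]),
    (7, 3, [4845570, 13938692, 2019456]),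
    (4, 1, [10170384]),
    (10, 1, [11654144]),
    (11, 1, [14919680])]

/-- an element of order 4 with centraliser of order 32 -/
def fourAEl : Nat := 967175044936379079623455823111008288

/-- search plan for its centraliser (2066 nodes) -/
def fourAPlan : List (Nat × Nat × List Nat) :=
  [(23, 1, []),
    (0, 1, []),
    (5, 4, []),
    (4, 4, [84464]),
    (13, 2, [8593633]),
    (3, 4, [4415544, 13721920, 13771273]),
    (2, 4, [3297305, 9506893, 10630149]),
    (18, 2, [13062145, 7221256]),
    (15, 1, [13938692]),
    (1, 1, [4845570])]

/-- an element of order 4 with centraliser of order 16 -/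
def fourBEl : Nat := 961047067348374334200269787825933696

/-- search plan for its centraliser (926 nodes) -/
def fourBPlan : List (Nat × Nat × List Nat) :=
  [(23, 1, []),
    (0, 1, []),
    (20, 1, []),
    (17, 1, []),
    (14, 2, []),
    (5, 4, [9158944]),
    (1, 4, [3719203, 11163650]),
    (6, 2, [2854977, 11654144]),
    (4, 4, [13062145, 4845570, 10170384]),
    (2, 4, [13938692, 7221256, 2019456, 8077824])]

/-- an element of order 6 with centraliser of order 12 -/
def sixEl : Nat := 962589694261194093719203005850704384

/-- search plan for its centraliser (530 nodes) -/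
def sixPlan : List (Nat × Nat × List Nat) :=
  [(23, 1, []),
    (0, 1, []),
    (1, 3, []),
    (17, 3, [11731203]),
    (2, 6, [10846245, 7438406]),
    (9, 2, [15073798, 7767041]),
    (3, 6, [13062145, 4845570, 13938692, 7221256, 2019456]),
    (4, 2, [10170384, 14919680])]

/-- an element of order 8 with centraliser of order 8 -/
def eightEl : Nat := 964649684635689654129203014539581920

/-- search plan for its centraliser (268 nodes) -/
def eightPlan : List (Nat × Nat × List Nat) :=
  [(23, 1, []),
    (0, 1, []),
    (1, 2, []),
    (13, 4, [9347075]),
    (2, 8, [2854977, 10916112, 10630149]),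
    (3, 8, [13062145, 13938692, 7221256, 10170384, 11952160, 2019456, 8077824, 14919680])]

end CfsgLib.M22Nse
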