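import Cfsg.Agent.Lib.M22Nse.Defs
import Cfsg.Agent.Lib.M22Nse.TargetData
import Cfsg.Agent.Lib.Spor.McLInvol.M22
import Cfsg.Agent.Lib.Spor.MathieuDegreeBound
import Cfsg.Agent.Lib.FgsB.Basic

/-!
# The numbers of elements of each order in the Mathieu group of degree 22

Twelve elements lie in different classes and the lengths of their classes add up to the order of
the group, so these are all the classes and the numbers of elements of each order follow.
-/

set_option autoImplicit false
set_option maxRecDepth 100000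
set_option linter.style.haveILetI false

namespace CfsgLib.M22Nse

open Cfsg CfsgLib.Spor CfsgLib.MathieuOut
open scoped Pointwise

attribute [local irreducible] compP packL normP

/-- the packed element has the given order -/
def ordOK (a m : ℕ) : Bool :=
  inStabP [] [23, 0] a && Nat.blt 0 m &&
    eqP (MathieuOut.powP a m) MathieuOut.idP &&
    (List.range m).all fun k => Nat.beq k 0 || !eqP (MathieuOut.powP a k) MathieuOut.idP

theorem exists_elt {a m : ℕ} (h : ordOK a m = true) :
    ∃ A : ↥Spor.M22, Rep (A : Equiv.Perm GolayPt) a ∧ orderOf A = m := by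
  simp only [ordOK, Bool.and_eq_true, Nat.blt_eq, List.all_eq_true, List.mem_range,
    Bool.or_eq_true, Nat.beq_eq, Bool.not_eq_true'] at h
  obtain ⟨⟨⟨ha, hm⟩, h1⟩, h2⟩ := h
  obtain ⟨σ, hσ, hσa⟩ := exists_stab_rep (by decide) ha
  refine ⟨⟨σ, stabG_M22 ▸ hσ⟩, hσa, (orderOf_eq_iff hm).2 ⟨Subtype.ext ?_, fun k hk hk0 e => ?_⟩⟩
  · simpa using (eqP_iff (rep_pow hσa m) rep_idP).1 h1
  · rcases h2 k hk with h3 | h3
    · omega
    · rw [(eqP_iff (rep_pow hσa k) rep_idP).2 (by simpa using congrArg Subtype.val e)] at h3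
      exact absurd h3 (by decide)

/-- an element of the given order with centraliser of the given order -/
def EltAt (m c : ℕ) : Prop :=
  ∃ A : ↥Spor.M22, orderOf A = m ∧
    Nat.card (Subgroup.centralizer ({A} : Set ↥Spor.M22)) = c

theorem eltAt_of_cert {a m c : ℕ} {plan : List (ℕ × ℕ × List ℕ)} (h : ordOK a m = true)
    (hplan : planOK a plan [] = true) (hok : centListOK [] [23, 0] a plan = true)
    (hnd : McLInvol.distinctB (dfs [] [23, 0] a a plan []) = true)
    (hlen : Nat.beq (dfs [] [23, 0] a a plan []).length c = true) : EltAt m c := by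
  obtain ⟨A, hA, hAm⟩ := exists_elt h
  exact ⟨A, hAm, natCard_centralizer_cert stabG_M22 (by decide) hplan hok
    (McLInvol.nodup_of_distinctB hnd) (Nat.eq_of_beq_eq_true hlen) A hA⟩

theorem eltAt_three : EltAt 3 36 :=
  eltAt_of_cert (a := threeEl) (plan := threePlan) (by decide +kernel) (by decide +kernel)
    (by decide +kernel) (by decide +kernel) (by decide +kernel)

theorem eltAt_fourA : EltAt 4 32 :=
  eltAt_of_cert (a := fourAEl) (plan := fourAPlan) (by decide +kernel) (by decide +kernel)
    (by decide +kernel) (by decide +kernel) (by decide +kernel)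

theorem eltAt_fourB : EltAt 4 16 :=
  eltAt_of_cert (a := fourBEl) (plan := fourBPlan) (by decide +kernel) (by decide +kernel)
    (by decide +kernel) (by decide +kernel) (by decide +kernel)

theorem eltAt_six : EltAt 6 12 :=
  eltAt_of_cert (a := sixEl) (plan := sixPlan) (by decide +kernel) (by decide +kernel)
    (by decide +kernel) (by decide +kernel) (by decide +kernel)

theorem eltAt_eight : EltAt 8 8 :=
  eltAt_of_cert (a := eightEl) (plan := eightPlan) (by decide +kernel) (by decide +kernel)
    (by decide +kernel) (by decide +kernel) (by decide +kernel)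

/-- the orders of the representatives -/
def ordOf : Fin 12 → ℕ := ![1, 2, 3, 4, 4, 5, 6, 7, 7, 8, 11, 11]

/-- the orders of their centralisers -/
def cenOf : Fin 12 → ℕ := ![443520, 384, 36, 32, 16, 5, 12, 7, 7, 8, 11, 11]

/-- the lengths of their classes -/
def lenOf : Fin 12 → ℕ :=
  ![1, 1155, 12320, 13860, 27720, 88704, 36960, 63360, 63360, 55440, 40320, 40320]

theorem exists_reps : ∃ f : Fin 12 → ↥Spor.M22, (∀ i, orderOf (f i) = ordOf i) ∧
    (∀ i, Nat.card (Subgroup.centralizer ({f i} : Set ↥Spor.M22)) ≤ cenOf i) ∧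
    (∀ i j, IsConj (f i) (f j) → i = j) := by
  obtain ⟨A, B, C, hA, hB, hC, cA, cB, cC, hAn, hBn, -, -, -⟩ := m22_data
  obtain ⟨x3, ho3, hc3⟩ := eltAt_three
  obtain ⟨x4, ho4, hc4⟩ := eltAt_fourA
  obtain ⟨y4, ho4', hc4'⟩ := eltAt_fourB
  obtain ⟨x6, ho6, hc6⟩ := eltAt_six
  obtain ⟨x8, ho8, hc8⟩ := eltAt_eight
  obtain ⟨z, hz⟩ := McLInvol.exists_mCode McLInvol.codes_ok.1
  have h4 : ¬ IsConj x4 y4 := by
    intro h
    have hi : (Subgroup.centralizer ({x4} : Set ↥Spor.M22)).index =
        (Subgroup.centralizer ({y4} : Set ↥Spor.M22)).index := by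
      rw [← CfsgLib.FgsB.card_isConj_eq_index, ← CfsgLib.FgsB.card_isConj_eq_index]
      exact Nat.card_congr (Equiv.subtypeEquivRight fun g => ⟨h.symm.trans, h.trans⟩)
    have h1 := (Subgroup.centralizer ({x4} : Set ↥Spor.M22)).card_mul_index
    have h2 := (Subgroup.centralizer ({y4} : Set ↥Spor.M22)).card_mul_index
    rw [hc4, hi, ← h2, hc4'] at h1
    have h3 := Nat.eq_of_mul_eq_mul_right
      (Nat.pos_of_ne_zero Subgroup.FiniteIndex.index_ne_zero) h1
    omega
  haveI : Fact (Nat.Prime 2) := ⟨Nat.prime_two⟩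
  have hz2 : orderOf z = 2 :=
    orderOf_eq_prime (by rw [pow_two]; exact (McLInvol.z_props hz).1) (McLInvol.z_props hz).2
  have horder : ∀ k, orderOf ((![1, z, x3, x4, y4, C, x6, B, B⁻¹, x8, A, A⁻¹] :
      Fin 12 → ↥Spor.M22) k) = ordOf k := by
    intro k
    fin_cases k <;>
      first
        | exact orderOf_one
        | exact hz2
        | assumption
        | exact (orderOf_inv _).trans hB
        | exact (orderOf_inv _).trans hA
  refine ⟨![1, z, x3, x4, y4, C, x6, B, B⁻¹, x8, A, A⁻¹], horder, fun i => ?_,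
    fun i j hij => ?_⟩
  · fin_cases i <;>
      first
        | exact McLInvol.card_centralizer_le hz
        | exact le_of_eq hc3
        | exact le_of_eq hc4
        | exact le_of_eq hc4'
        | exact le_of_eq cC
        | exact le_of_eq hc6
        | exact le_of_eq hc8
        | exact le_of_eq cA
        | exact le_of_eq cB
        | exact le_of_eq ((congrArg (fun S : Subgroup ↥Spor.M22 => Nat.card S)
            (centralizer_inv_eq B)).trans cB)
        | exact le_of_eq ((congrArg (fun S : Subgroup ↥Spor.M22 => Nat.card S)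
            (centralizer_inv_eq A)).trans cA)
        | exact (Subgroup.card_le_card_group _).trans
            (le_of_eq CfsgLib.MathieuOut.natCard_M22)
  · have ho := orderOf_ne_of_isConj hij
    rw [horder, horder] at ho
    by_contra hne
    have key : (i = 3 ∧ j = 4) ∨ (i = 4 ∧ j = 3) ∨ (i = 7 ∧ j = 8) ∨ (i = 8 ∧ j = 7) ∨
        (i = 10 ∧ j = 11) ∨ (i = 11 ∧ j = 10) := by
      clear hij
      revert ho hne
      revert i j
      decide
    rcases key with ⟨rfl, rfl⟩ | ⟨rfl, rfl⟩ | ⟨rfl, rfl⟩ | ⟨rfl, rfl⟩ | ⟨rfl, rfl⟩ | ⟨rfl, rfl⟩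
    · exact h4 hij
    · exact h4 hij.symm
    · exact hBn hij
    · exact hBn hij.symm
    · exact hAn hij
    · exact hAn hij.symm

/-- the numbers of elements of each order in the Mathieu group of degree 22 -/
theorem cnt_M22 (n : ℕ) : cnt ↥Cfsg.Spor.M22 n =
    ∑ i ∈ Finset.univ.filter (fun i => ordOf i = n), lenOf i := by
  classical
  haveI : Fintype ↥Spor.M22 := Fintype.ofFinite _
  obtain ⟨f, ho, hc, hinj⟩ := exists_reps
  have hG : Nat.card ↥Spor.M22 = 443520 := CfsgLib.MathieuOut.natCard_M22
  let S : Fin 12 → Finset ↥Spor.M22 := fun i => Finset.univ.filter fun g => IsConj (f i) g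
  have hd : ∀ i j, i ≠ j → Disjoint (S i) (S j) := fun i j hne => by
    rw [Finset.disjoint_left]
    intro g hi hj
    exact hne (hinj i j ((Finset.mem_filter.1 hi).2.trans (Finset.mem_filter.1 hj).2.symm))
  have hcard : ∀ i, Nat.card (Subgroup.centralizer ({f i} : Set ↥Spor.M22)) * (S i).card
      = 443520 := fun i => by
    have h := (Subgroup.centralizer ({f i} : Set ↥Spor.M22)).card_mul_index
    rw [← CfsgLib.FgsB.card_isConj_eq_index, hG, Nat.card_eq_fintype_card (α := {h // IsConj (f i) h}),
      Fintype.card_subtype] at h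
    exact h
  have hge : ∀ i, lenOf i ≤ (S i).card := fun i => by
    have h1 : cenOf i * lenOf i = 443520 := by revert i; decide
    have h2 : 0 < cenOf i := by revert i; decide
    refine Nat.le_of_mul_le_mul_left ?_ h2
    rw [h1, ← hcard i]
    exact Nat.mul_le_mul_right _ (hc i)
  have hU : Finset.univ.biUnion S = Finset.univ ∧ ∀ i, (S i).card = lenOf i := by
    have h1 : (Finset.univ.biUnion S).card = ∑ i, (S i).card :=
      Finset.card_biUnion fun i _ j _ h => hd i j h
    have h2 := Finset.card_le_univ (Finset.univ.biUnion S)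
    have h3 : (∑ i, lenOf i) = 443520 := by decide +kernel
    have h4 : Fintype.card ↥Spor.M22 = 443520 := Nat.card_eq_fintype_card.symm.trans hG
    have h5 : (∑ i, lenOf i) ≤ ∑ i, (S i).card := Finset.sum_le_sum fun i _ => hge i
    refine ⟨Finset.eq_univ_of_card _ (by omega), fun i => ?_⟩
    by_contra hne
    have := Finset.sum_lt_sum (fun j _ => hge j)
      ⟨i, Finset.mem_univ i, lt_of_le_of_ne (hge i) (Ne.symm hne)⟩
    omega
  have hfil : Finset.univ.filter (fun g : ↥Spor.M22 => orderOf g = n) =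
      (Finset.univ.filter fun i => ordOf i = n).biUnion S := by
    ext g
    obtain ⟨i, -, hi⟩ := Finset.mem_biUnion.1 (hU.1 ▸ Finset.mem_univ g)
    have hgo : ∀ j, g ∈ S j → orderOf g = ordOf j := fun j hj =>
      (orderOf_ne_of_isConj (Finset.mem_filter.1 hj).2).symm.trans (ho j)
    simp only [Finset.mem_filter, Finset.mem_univ, true_and, Finset.mem_biUnion]
    exact ⟨fun h => ⟨i, (hgo i hi).symm.trans h, hi⟩, fun ⟨j, hj, hjg⟩ => (hgo j hjg).trans hj⟩
  rw [cnt, Nat.card_eq_fintype_card, Fintype.card_subtype, hfil,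
    Finset.card_biUnion fun i _ j _ h => hd i j h]
  exact Finset.sum_congr rfl fun i _ => hU.2 i

theorem hyp_M22 : Hyp ↥Cfsg.Spor.M22 where
  card := CfsgLib.MathieuOut.natCard_M22
  mem n := by
    rw [cnt_M22]
    rcases Nat.lt_or_ge n 12 with hn | hn
    · interval_cases n <;> decide +kernel
    · left
      have h : ∀ i, ordOf i < 12 := by decide
      rw [Finset.filter_false_of_mem fun i _ => (lt_of_lt_of_le (h i) hn).ne, Finset.sum_empty]

universe u

theorem hyp_of_nse {G : Type u} [Group G] [Finite G]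
    (hcard : Nat.card G = Nat.card ↥Cfsg.Spor.M22)
    (hnse : {c : ℕ | 0 < c ∧ ∃ n : ℕ, c = Nat.card {g : G // orderOf g = n}} =
      {c : ℕ | 0 < c ∧ ∃ n : ℕ, c = Nat.card {g : ↥Cfsg.Spor.M22 // orderOf g = n}}) :
    Hyp G where
  card := hcard.trans CfsgLib.MathieuOut.natCard_M22
  mem n := by
    rcases Nat.eq_zero_or_pos (cnt G n) with h | h
    · exact Or.inl h
    · obtain ⟨-, m, hm⟩ := (Set.ext_iff.1 hnse _).1 ⟨h, n, rfl⟩
      rcases hyp_M22.mem m with h' | h'
      · exact Or.inl (hm.trans h')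
      · exact Or.inr ((show cnt G n = cnt ↥Cfsg.Spor.M22 m from hm).symm ▸ h')

end CfsgLib.M22Nse
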